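import Groth.Agent.ProperNhd.FlatFibre
import Groth.Agent.S2363

/-!
# Geometric connectedness of special fibres of flat proper morphisms
-/

universe u

open CategoryTheory CategoryTheory.Limits AlgebraicGeometry TopologicalSpace IsLocalRing

set_option backward.isDefEq.respectTransparency false
set_option backward.isDefEq.respectTransparency.types false

namespace Groth.Agent.ProperNhd

theorem exists_complete_extension {A : Type u} [CommRing A] [IsNoetherianRing A] [IsLocalRing A]
    (K : Type u) [Field K] (φ : ResidueField A →+* K) :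
    ∃ (B : Type u) (_ : CommRing B) (_ : IsLocalRing B) (ι : A →+* B) (π : B →+* K),
      IsNoetherianRing B ∧ IsAdicComplete (maximalIdeal B) B ∧ ι.Flat ∧
      Function.Surjective π ∧ π.comp ι = φ.comp (residue A) := by
  letI := φ.toAlgebra
  obtain ⟨B, _, _, hBN, hBL, hloc, hflat, e, he⟩ := Groth.Agent.S2363.result (A := A) K
  have fg : (maximalIdeal B).FG := IsNoetherian.noetherian _
  have := FlatLoc6.isLocalRing_cpl B
  have := FlatLoc6.isNoetherianRing_cpl B
  have := FlatLoc6.faithfullyFlat_cpl B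
  have hmK : ((maximalIdeal A).map (algebraMap A B)).IsMaximal :=
    Ideal.Quotient.maximal_of_isField _ (e.toMulEquiv.isField (Field.toIsField K))
  have hmB : maximalIdeal B = (maximalIdeal A).map (algebraMap A B) := (eq_maximalIdeal hmK).symm
  let π : EGA4.Cpl B →+* K := (e.toRingHom.comp ((Ideal.quotEquivOfEq hmB).toRingHom)).comp
    (AdicCompletion.evalOneₐ (maximalIdeal B)).toRingHom
  refine ⟨EGA4.Cpl B, inferInstance, inferInstance, (algebraMap B (EGA4.Cpl B)).comp (algebraMap A B), π,
    inferInstance, ?_, ?_, ?_, ?_⟩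
  · rw [AdicCompletion.maximalIdeal_eq_map_of_fg fg]
    exact Adic7.isAdicComplete_completion _ fg
  · exact (RingHom.flat_algebraMap_iff.2 hflat).comp (RingHom.flat_algebraMap_iff.2 inferInstance)
  · exact (e.surjective.comp (Ideal.quotEquivOfEq hmB).surjective).comp
      (AdicCompletion.evalOneₐ_surjective _)
  · ext a
    show e (Ideal.quotEquivOfEq hmB (AdicCompletion.evalOneₐ (maximalIdeal B)
      (algebraMap B (EGA4.Cpl B) (algebraMap A B a)))) = _
    rw [AlgHom.commutes]
    exact he a

theorem preconnectedSpace_closedFibre {B : Type u} [CommRing B] [IsLocalRing B] [IsNoetherianRing B]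
    [IsAdicComplete (maximalIdeal B) B] {Z : Scheme.{u}} (g : Z ⟶ Spec (CommRingCat.of B)) [IsProper g] [Flat g]
    (hconn : ∀ q : Spec (CommRingCat.of B), (∀ r, r ⤳ q → r = q) → _root_.IsPreconnected (g ⁻¹' {q})) :
    PreconnectedSpace ↥(pullback g (Spec.map (CommRingCat.ofHom (Ideal.Quotient.mk (maximalIdeal B))))) := by
  let i := pullback.fst g (Spec.map (CommRingCat.ofHom (Ideal.Quotient.mk (maximalIdeal B))))
  rw [preconnectedSpace_iff_clopen]
  intro V hV
  by_contra! h
  obtain ⟨v, hv⟩ := h.1
  obtain ⟨w, hw⟩ := (Set.ne_univ_iff_exists_notMem V).1 h.2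
  obtain ⟨U, ⟨hU, hUV⟩, -⟩ := ProperComp7.exists_lift_clopen g V hV
  obtain ⟨q, hq, hqmax⟩ := exists_maximal_specializes (closedPoint B : Spec (CommRingCat.of B))
  have key : ∀ z, g (i z) = closedPoint B := fun z => (range_closedFibre g).subset ⟨z, rfl⟩
  obtain ⟨a, ha, hga⟩ := Flat.generalizingMap g (show q ⤳ g (i v) from (key v).symm ▸ hq)
  obtain ⟨b, hb, hgb⟩ := Flat.generalizingMap g (show q ⤳ g (i w) from (key w).symm ▸ hq)
  obtain ⟨e, -, he⟩ := hconn q hqmax U Uᶜ hU.2 hU.1.isOpen_compl (fun x _ => Classical.em _)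
    ⟨a, hga, ha.mem_open hU.2 (hUV.ge hv)⟩
    ⟨b, hgb, hb.mem_open hU.1.isOpen_compl (show i w ∈ Uᶜ from fun hn => hw (hUV.le hn))⟩
  exact he.2 he.1

theorem geometricallyConnected_fibre_of_flat_proper {X Y : Scheme.{u}} [IsLocallyNoetherian Y] (f : X ⟶ Y)
    [IsProper f] [Flat f] (s : Y) (hne : ∃ x, f x = s)
    (hgen : ∀ η : Y, (∀ η' : Y, η' ⤳ η → η' = η) → (∃ x, f x = η) →
      GeometricallyConnected (f.fiberToSpecResidueField η)) :
    GeometricallyConnected (f.fiberToSpecResidueField s) := by
  refine ⟨geometrically_iff_of_isClosedUnderIsomorphisms.mpr fun K _ x => ?_⟩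
  obtain ⟨φ, rfl⟩ : ∃ φ : Y.residueField s ⟶ CommRingCat.of K, Spec.map φ = x := ⟨_, Spec.map_preimage x⟩
  obtain ⟨B, _, _, ι, π, hBN, hBC, hflat, hπ, hcomp⟩ :=
    exists_complete_extension (A := Y.presheaf.stalk s) K φ.hom
  let c : Spec (CommRingCat.of B) ⟶ Y := Spec.map (CommRingCat.ofHom ι) ≫ Y.fromSpecStalk s
  have : Flat c := by
    have : Flat (Spec.map (CommRingCat.ofHom ι)) := Flat.SpecMap_iff.2 hflat
    have := H23.RatExtend.flat_fromSpecStalk Y s
    infer_instance
  have hg : Spec.map φ ≫ Y.fromSpecResidueField s = Spec.map (CommRingCat.ofHom π) ≫ c := by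
    rw [Scheme.fromSpecResidueField, ← Spec.map_comp_assoc, ← Spec.map_comp_assoc]
    congr 2
    ext1
    exact hcomp.symm
  have e : pullback (f.fiberToSpecResidueField s) (Spec.map φ) ≅
      pullback (pullback.snd f c) (Spec.map (CommRingCat.ofHom π)) :=
    pullbackLeftPullbackSndIso f _ (Spec.map φ) ≪≫ pullback.congrHom rfl hg ≪≫
      (pullbackLeftPullbackSndIso f c _).symm
  rw [e.hom.homeomorph.connectedSpace_iff]
  have hker : RingHom.ker π = maximalIdeal B := eq_maximalIdeal (RingHom.ker_isMaximal_of_surjective π hπ)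
  let π' : B ⧸ maximalIdeal B →+* K := Ideal.Quotient.lift _ π fun b hb => by rwa [← RingHom.mem_ker, hker]
  have : IsIso (Spec.map (CommRingCat.ofHom π')) := by
    have : IsIso (CommRingCat.ofHom π') := by
      rw [ConcreteCategory.isIso_iff_bijective]
      let := Ideal.Quotient.field (maximalIdeal B)
      exact ⟨RingHom.injective π', Ideal.Quotient.lift_surjective_of_surjective _ _ hπ⟩
    infer_instance
  have hπ' : Spec.map (CommRingCat.ofHom π) =
      Spec.map (CommRingCat.ofHom π') ≫ Spec.map (CommRingCat.ofHom (Ideal.Quotient.mk (maximalIdeal B))) := by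
    rw [← Spec.map_comp]
    rfl
  have hne' : ∃ z, pullback.snd f c z = closedPoint B := by
    obtain ⟨x, hx⟩ := hne
    have hcs : c (closedPoint B) = s := by
      have h := congrArg (fun g => g (closedPoint K)) hg
      simp only [Scheme.Hom.comp_apply, Scheme.fromSpecResidueField_apply] at h
      rw [h]
      congr 1
      refine PrimeSpectrum.ext ?_
      change maximalIdeal B = Ideal.comap π (maximalIdeal K)
      rw [← hker, IsLocalRing.maximalIdeal_eq_bot]
      rfl
    obtain ⟨z, -, hz⟩ := Scheme.Pullback.exists_preimage_pullback (f := f) (g := c) x (closedPoint B) (hx.trans hcs.symm)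
    exact ⟨z, hz⟩
  have := preconnectedSpace_closedFibre (pullback.snd f c) fun q hq => by
    rcases (pullback.snd f c ⁻¹' {q}).eq_empty_or_nonempty with h | ⟨z, hz⟩
    · rw [h]; exact isPreconnected_empty
    have := hgen (c q) (fun η h' => by
      obtain ⟨r, hr, rfl⟩ := Flat.generalizingMap c h'
      rw [hq r hr])
      ⟨pullback.fst f c z, by rw [← Scheme.Hom.comp_apply, pullback.condition, Scheme.Hom.comp_apply, hz]⟩
    exact (isConnected_pullback_fibre f c q rfl).isPreconnected
  have : ConnectedSpace ↥(pullback (pullback.snd f c) (Spec.map (CommRingCat.ofHom (Ideal.Quotient.mk (maximalIdeal B))))) := by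
    obtain ⟨z, hz⟩ := hne'
    obtain ⟨w, -⟩ := (range_closedFibre (pullback.snd f c)).ge hz
    exact { toNonempty := ⟨w⟩ }
  let e' : pullback (pullback.snd f c) (Spec.map (CommRingCat.ofHom π)) ≅ pullback (pullback.snd f c)
      (Spec.map (CommRingCat.ofHom (Ideal.Quotient.mk (maximalIdeal B)))) :=
    pullback.congrHom rfl hπ' ≪≫ asIso (pullback.map _ _ _ _ (𝟙 _) (Spec.map (CommRingCat.ofHom π')) (𝟙 _) (by simp) (by simp))
  rw [e'.hom.homeomorph.connectedSpace_iff]
  infer_instance

end Groth.Agent.ProperNhd
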