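import Groth.Agent.ProperNhd.SectionMain
import Groth.Agent.Triage.GeomCount

/-!
# Openness of the proper locus with a section after a cover (EGA IV 15.7.11)
-/

universe u

open CategoryTheory CategoryTheory.Limits AlgebraicGeometry TopologicalSpace

set_option backward.isDefEq.respectTransparency false
set_option backward.isDefEq.respectTransparency.types false

namespace Groth.Agent.ProperNhd

variable {X Y : Scheme.{u}}

theorem isPreconnected_fibre_of_nGeomConnComp_le_one (f : X ⟶ Y) (y : Y) (h : MoreMor.nGeomConnComp f y ≤ 1) :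
    _root_.IsPreconnected (f ⁻¹' {y}) := by
  let ψ := Spec.map (CommRingCat.ofHom (algebraMap (Y.residueField y) (SeparableClosure (Y.residueField y))))
  have : Subsingleton (_root_.ConnectedComponents ↥(MoreMor.geomFiber f y)) :=
    (ENat.card_le_one_iff_subsingleton _).1 h
  have : PreconnectedSpace ↥(MoreMor.geomFiber f y) :=
    preconnectedSpace_iff_connectedComponent.2 fun a => Set.eq_univ_of_forall fun b =>
      ConnectedComponents.coe_eq_coe'.1 (Subsingleton.elim (ConnectedComponents.mk b) (ConnectedComponents.mk a))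
  have : Surjective ψ := ⟨fun x => by
    obtain ⟨p⟩ : Nonempty (PrimeSpectrum (SeparableClosure (Y.residueField y))) := inferInstance
    exact ⟨p, Subsingleton.elim (α := PrimeSpectrum (Y.residueField y)) _ _⟩⟩
  let π : MoreMor.geomFiber f y ⟶ f.fiber y := pullback.fst (f.fiberToSpecResidueField y) ψ
  have : Surjective π := MorphismProperty.pullback_fst _ _ inferInstance
  have h1 : _root_.IsPreconnected (Set.univ : Set (f.fiber y)) := by
    rw [← π.surjective.range_eq, ← Set.image_univ]
    exact isPreconnected_univ.image π π.continuous.continuousOn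
  rw [← f.range_fiberι, ← Set.image_univ]
  exact h1.image _ (f.fiberι y).continuous.continuousOn

theorem sectionComponents_eq_univ (f : X ⟶ Y) (s : Y ⟶ X) (hs : s ≫ f = 𝟙 Y)
    (hconn : ∀ y : Y, _root_.IsPreconnected (f ⁻¹' {y})) : MoreMor.sectionComponents f s = Set.univ :=
  Set.eq_univ_of_forall fun x => (hconn (f x)).subset_connectedComponentIn
    (show s (f x) ∈ f ⁻¹' {f x} by show f (s (f x)) = f x; rw [← Scheme.Hom.comp_apply, hs]; rfl)
    subset_rfl rfl

theorem isProper_pullback_fibre' (f : X ⟶ Y) {U : Y.Opens} (hP : IsProper (f ∣_ U)) (z : Y) (hz : z ∈ U) :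
    IsProper (f.fiberToSpecResidueField z) := by
  obtain ⟨φ, hφ⟩ : ∃ φ, φ ≫ U.ι = Y.fromSpecResidueField z :=
    ⟨_, IsOpenImmersion.lift_fac U.ι (Y.fromSpecResidueField z) (by
      rw [Scheme.range_fromSpecResidueField, Scheme.Opens.range_ι, Set.singleton_subset_iff]; exact hz)⟩
  have h : IsPullback (pullback.fst (f ∣_ U) φ ≫ (f ⁻¹ᵁ U).ι) (pullback.snd (f ∣_ U) φ) f (Y.fromSpecResidueField z) :=
    hφ ▸ (IsPullback.of_hasPullback _ _).paste_horiz (isPullback_morphismRestrict f U).flip
  show IsProper (pullback.snd f (Y.fromSpecResidueField z))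
  rw [← h.isoPullback_inv_snd]
  have : IsProper (pullback.snd (f ∣_ U) φ) := MorphismProperty.pullback_snd _ _ hP
  infer_instance

theorem restrict_inf_iff (f : X ⟶ Y) (U V : Y.Opens) :
    IsProper (f ∣_ U ∣_ (U.ι ⁻¹ᵁ V)) ↔ IsProper (f ∣_ (U ⊓ V)) := by
  have e : U.ι ⁻¹ᵁ V = U.ι ⁻¹ᵁ (U ⊓ V) := by
    rw [Scheme.Hom.preimage_inf, Scheme.Opens.ι_preimage_self, top_inf_eq]
  rw [e]
  exact FComplLib.restrict_le_iff f @IsProper inf_le_left

theorem IsProperOn.univ_isProper {f : X ⟶ Y} {U : Y.Opens} [IsSeparated f] [LocallyOfFiniteType f]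
    (h : IsProperOn f U Set.univ) : IsProper (f ∣_ U) := by
  obtain ⟨T, j, hj, hr, hp⟩ := h
  have : IsSeparated (f ∣_ U) := IsZariskiLocalAtTarget.restrict (P := @IsSeparated) inferInstance U
  have : LocallyOfFiniteType (f ∣_ U) :=
    IsZariskiLocalAtTarget.restrict (P := @LocallyOfFiniteType) inferInstance U
  have : UniversallyClosed (f ∣_ U) :=
    ConsPropLib.universallyClosed_of_jointly_surjective (f ∣_ U) (fun _ : PUnit.{1} => j) fun x =>
      ⟨⟨⟩, hr.ge (Set.mem_univ _)⟩
  exact {}

theorem isOpen_properLocus_after_cover {Y' : Scheme.{u}} (f : X ⟶ Y)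
    [IsSeparated f] [LocallyOfFinitePresentation f] [QuasiCompact f]
    (g : Y' ⟶ Y) [Surjective g] [LocallyOfFinitePresentation g] [QuasiCompact g]
    (hg : IsProper g ∨ Flat g) (σ : Y' ⟶ X) (hσ : σ ≫ f = g)
    (hconn : ∀ y : Y, MoreMor.nGeomConnComp f y ≤ 1) :
    ∃ U : Y.Opens, (U : Set Y) = {y : Y | IsProper (f.fiberToSpecResidueField y)} ∧ IsProper (f ∣_ U) := by
  let f' := pullback.snd f g
  let q := pullback.fst f g
  have sq : IsPullback q f' f g := IsPullback.of_hasPullback f g
  let s' : Y' ⟶ pullback f g := pullback.lift σ (𝟙 Y') (by rw [hσ, Category.id_comp])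
  have hs' : s' ≫ f' = 𝟙 Y' := pullback.lift_snd _ _ _
  have hZ : MoreMor.sectionComponents f' s' = Set.univ := sectionComponents_eq_univ f' s' hs' fun y' =>
    isPreconnected_fibre_of_nGeomConnComp_le_one f' y'
      (by rw [(Triage.GeomCount.nGeom_baseChange f f' q g sq y').2]; exact hconn _)
  have hiff : ∀ y' : Y', FibreProperAt f' y' (q ⁻¹' Set.univ) ↔ IsProper (f.fiberToSpecResidueField (g y')) := fun y' => by
    rw [fibreProperAt_iff sq y' Set.univ (by rw [Set.preimage_univ]; exact isOpen_univ)]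
    have hi : IsIso (⊤ : (f.fiber (g y')).Opens).ι := by rw [← Scheme.topIso_hom]; infer_instance
    constructor
    · rintro ⟨O, hO, hp⟩
      obtain rfl : O = ⊤ := SetLike.coe_injective (hO.trans Set.preimage_univ)
      rw [← IsIso.inv_hom_id_assoc (⊤ : (f.fiber (g y')).Opens).ι (f.fiberToSpecResidueField (g y'))]
      infer_instance
    · intro hp
      exact ⟨⊤, Set.preimage_univ.symm, inferInstance⟩
  have hnhd : ∀ y' : Y', IsProper (f.fiberToSpecResidueField (g y')) →
      ∃ U : Y'.Opens, y' ∈ U ∧ IsProper (f' ∣_ U) := fun y' hy' => by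
    have := (hiff y').2 hy'
    rw [Set.preimage_univ, ← hZ] at this
    obtain ⟨U, hU, hP⟩ := exists_isProperOn f' s' hs' y' this
    exact ⟨U, hU, (hZ ▸ hP).univ_isProper⟩
  let G : Set Y := {y : Y | IsProper (f.fiberToSpecResidueField y)}
  have hopen : IsOpen (g ⁻¹' G) := by
    rw [isOpen_iff_forall_mem_open]
    intro y' hy'
    obtain ⟨U, hU, hP⟩ := hnhd y' hy'
    refine ⟨U, fun z hz => (hiff z).1 ?_, U.2, hU⟩
    have hi : IsIso (⊤ : (f'.fiber z).Opens).ι := by rw [← Scheme.topIso_hom]; infer_instance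
    refine ⟨⊤, by simp, ?_⟩
    have h := isProper_pullback_fibre' f' hP z hz
    infer_instance
  have hG : IsOpen G := by
    rcases hg with hg | hg
    · have : Gᶜ = g '' (g ⁻¹' G)ᶜ := by
        rw [← Set.preimage_compl, Set.image_preimage_eq _ g.surjective]
      rw [← isClosed_compl_iff, this]
      exact g.isClosedMap _ hopen.isClosed_compl
    · rw [← Set.image_preimage_eq G g.surjective]
      exact g.isOpenMap _ hopen
  let U : Y.Opens := ⟨G, hG⟩
  refine ⟨U, rfl, ?_⟩
  -- properness over `g⁻¹ U`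
  have hp' : IsProper (f' ∣_ (g ⁻¹ᵁ U)) := by
    choose V hV hVp using fun z : (g ⁻¹ᵁ U : Y'.Opens) => hnhd z.1 z.2
    refine (IsZariskiLocalAtTarget.iff_of_iSup_eq_top (P := @IsProper) (fun z : (g ⁻¹ᵁ U : Y'.Opens) => (g ⁻¹ᵁ U).ι ⁻¹ᵁ V z)
      (eq_top_iff.2 fun z _ => Opens.mem_iSup.2 ⟨z, hV z⟩)).2 fun z => ?_
    exact (restrict_inf_iff f' (g ⁻¹ᵁ U) (V z)).2 ((FComplLib.restrict_le_iff f' @IsProper inf_le_right).1
      (IsZariskiLocalAtTarget.restrict (P := @IsProper) (hVp z) _))
  have : Surjective (g ∣_ U) := IsZariskiLocalAtTarget.restrict (P := @Surjective) inferInstance U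
  have : IsSeparated (f ∣_ U) := IsZariskiLocalAtTarget.restrict (P := @IsSeparated) inferInstance U
  have : LocallyOfFiniteType (f ∣_ U) :=
    IsZariskiLocalAtTarget.restrict (P := @LocallyOfFiniteType) inferInstance U
  have hR := isPullback_restrict sq U
  rcases hg with hg | hg
  · have : IsProper (g ∣_ U) := IsZariskiLocalAtTarget.restrict (P := @IsProper) hg U
    let b := q.resLE (f ⁻¹ᵁ U) (f' ⁻¹ᵁ (g ⁻¹ᵁ U))
      (by rw [← Scheme.Hom.comp_preimage, ← sq.w, Scheme.Hom.comp_preimage])
    have : Surjective b := MorphismProperty.of_isPullback (P := @Surjective) hR.flip inferInstance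
    have : UniversallyClosed (b ≫ (f ∣_ U)) := by rw [hR.w]; infer_instance
    have : UniversallyClosed (f ∣_ U) :=
      ConsPropLib.universallyClosed_of_jointly_surjective (f ∣_ U) (fun _ : PUnit.{1} => b) fun x =>
        ⟨⟨⟩, b.surjective x⟩
    exact {}
  · have : Flat (g ∣_ U) := IsZariskiLocalAtTarget.restrict (P := @Flat) hg U
    have : QuasiCompact (g ∣_ U) := IsZariskiLocalAtTarget.restrict (P := @QuasiCompact) inferInstance U
    have := EtFound.fpqc_isProper.{u}
    exact MorphismProperty.of_isPullback_of_descendsAlong (P := @IsProper)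
      (Q := @Surjective ⊓ @Flat ⊓ @QuasiCompact) hR.flip ⟨⟨inferInstance, inferInstance⟩, inferInstance⟩ hp'

end Groth.Agent.ProperNhd
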