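import Groth.Agent.ConsPropLib.NoethApprox
import Groth.Agent.ConsPropLib.Approx
import Groth.Agent.MorLib.EventuallySep
import Groth.Agent.MorLib.BaseChangeLim

/-!
# Noetherian models of separated finitely presented morphisms with a section
-/

universe u

open CategoryTheory CategoryTheory.Limits AlgebraicGeometry TopologicalSpace

set_option backward.isDefEq.respectTransparency false
set_option backward.isDefEq.respectTransparency.types false

namespace Groth.Agent.ProperNhd

theorem exists_noetherian_model_section {X Y : Scheme.{u}} [IsAffine Y] (f : X ⟶ Y) [IsSeparated f]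
    [LocallyOfFinitePresentation f] [QuasiCompact f] (g : Y ⟶ X) (hg : g ≫ f = 𝟙 Y) :
    ∃ (X₀ Y₀ : Scheme.{u}) (f₀ : X₀ ⟶ Y₀) (g₀ : Y₀ ⟶ X₀) (q : X ⟶ X₀) (p : Y ⟶ Y₀),
      IsLocallyNoetherian Y₀ ∧ IsSeparated f₀ ∧ LocallyOfFiniteType f₀ ∧ QuasiCompact f₀ ∧
      g₀ ≫ f₀ = 𝟙 Y₀ ∧ IsPullback q f f₀ p ∧ g ≫ q = p ≫ g₀ := by
  obtain ⟨I, _, _, D, c, hc, e, hA, hN⟩ := ConsPropLib.exists_noetherian_limit Y
  have hAff : ∀ {i j : I} (a : i ⟶ j), IsAffineHom (D.map a) := fun {i j} a => isAffineHom_of_isAffine _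
  let f' := f ≫ e.inv
  obtain ⟨i, Xi, fi, gX, hM⟩ := ConsPropLib.hasModel hc f'
  have := hM.lfp; have := hM.qc; have := hM.qs
  have := hM.compactSpace
  have := hM.quasiSeparatedSpace
  let lim := MorLib.BC.isLimitCone D fi hM.sq hc
  -- separatedness
  have : IsSeparated (specULiftZIsTerminal.from X) := by
    have : IsSeparated (specULiftZIsTerminal.from Y) := by
      have : IsAffineHom (specULiftZIsTerminal.from Y) := isAffineHom_of_isAffine _
      infer_instance
    rw [show specULiftZIsTerminal.from X = f ≫ specULiftZIsTerminal.from Y from specULiftZIsTerminal.hom_ext _ _]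
    infer_instance
  obtain ⟨j₁, hj₁⟩ := MorLib.EvSep.eventually_isSeparated (D := MorLib.BC.diag D fi)
    (fun j => specULiftZIsTerminal.from ((MorLib.BC.diag D fi).obj j))
    (fun f => specULiftZIsTerminal.hom_ext _ _) (c := MorLib.BC.cone D fi hM.sq)
    (τ := specULiftZIsTerminal.from X) (fun j => specULiftZIsTerminal.hom_ext _ _) lim
  -- the section
  have : ∀ j : Over i, CompactSpace ((Over.forget i ⋙ D).obj j) := fun j =>
    inferInstanceAs (CompactSpace (D.obj j.left))
  have : ∀ j : Over i, QuasiSeparatedSpace ((Over.forget i ⋙ D).obj j) := fun j =>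
    inferInstanceAs (QuasiSeparatedSpace (D.obj j.left))
  have : ∀ {j k : Over i} (a : j ⟶ k), IsAffineHom ((Over.forget i ⋙ D).map a) := fun a => hAff _
  let s₀ : c.pt ⟶ Xi := e.hom ≫ g ≫ gX
  have hs₀ : s₀ ≫ fi = c.π.app i := by
    simp only [s₀, f', Category.assoc, hM.sq.w, reassoc_of% hg, Iso.hom_inv_id_assoc]
  let t : Over.forget i ⋙ D ⟶ (Functor.const _).obj (D.obj i) :=
    { app := fun j => D.map j.hom
      naturality := fun j k a => by
        show D.map a.left ≫ D.map k.hom = D.map j.hom ≫ 𝟙 _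
        rw [Category.comp_id, ← D.map_comp, Over.w a] }
  obtain ⟨j₂, σ, hσ, hσ'⟩ := Scheme.exists_π_app_comp_eq_of_locallyOfFinitePresentation (Over.forget i ⋙ D) t fi
    (c.whisker (Over.forget i)) ((Functor.Initial.isLimitWhiskerEquiv (Over.forget i) c).symm hc) s₀ (by
      ext j
      show c.π.app j.left ≫ D.map j.hom = s₀ ≫ fi
      rw [hs₀, c.w])
  let k := IsCofiltered.min j₁ j₂
  let a := IsCofiltered.minToRight j₁ j₂
  let σk : D.obj k.left ⟶ Xi := D.map a.left ≫ σ
  have hσk : σk ≫ fi = D.map k.hom := by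
    rw [Category.assoc, hσ']
    show D.map a.left ≫ D.map j₂.hom = _
    rw [← D.map_comp, Over.w a]
  let g₀ : D.obj k.left ⟶ pullback fi (D.map k.hom) := pullback.lift σk (𝟙 _) (by rw [hσk, Category.id_comp])
  refine ⟨pullback fi (D.map k.hom), D.obj k.left, pullback.snd _ _, g₀, MorLib.BC.proj D fi hM.sq k,
    e.inv ≫ c.π.app k.left, inferInstance, ?_, inferInstance, inferInstance, pullback.lift_snd _ _ _, ?_, ?_⟩
  · have hk : IsSeparated (specULiftZIsTerminal.from (pullback fi (D.map k.hom))) :=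
      hj₁ k (IsCofiltered.minToLeft j₁ j₂)
    have : IsSeparated (pullback.snd fi (D.map k.hom) ≫ specULiftZIsTerminal.from (D.obj k.left)) := by
      rwa [show pullback.snd fi (D.map k.hom) ≫ specULiftZIsTerminal.from (D.obj k.left) =
        specULiftZIsTerminal.from _ from specULiftZIsTerminal.hom_ext _ _]
    exact IsSeparated.of_comp _ (specULiftZIsTerminal.from (D.obj k.left))
  · exact (MorLib.BC.isPullback_proj D fi hM.sq k).of_iso (Iso.refl _) (Iso.refl _) e (Iso.refl _)
      (by simp) (by simp [f']) (by simp) (by simp)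
  · refine pullback.hom_ext ?_ ?_
    · simp only [g₀, Category.assoc, MorLib.BC.proj_fst, pullback.lift_fst, σk]
      have hw : c.π.app k.left ≫ D.map a.left = c.π.app j₂.left := c.w a.left
      rw [reassoc_of% hw]
      have hs : c.π.app j₂.left ≫ σ = s₀ := hσ
      rw [hs]
      simp [s₀]
    · simp only [g₀, Category.assoc, MorLib.BC.proj_snd, pullback.lift_snd, Category.comp_id, f',
        reassoc_of% hg]

end Groth.Agent.ProperNhd
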