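import Groth.Agent.PnCoh.Chow.Closed
import Mathlib.AlgebraicGeometry.Morphisms.Immersion

/-!
# The Chow modification of a separated scheme is a subscheme of projective space
-/

universe u

open CategoryTheory CategoryTheory.Limits AlgebraicGeometry TopologicalSpace Opposite MvPolynomial
open Groth.Agent.PnCoh.Chow

set_option backward.isDefEq.respectTransparency false
set_option backward.isDefEq.respectTransparency.types false

noncomputable section

namespace Groth.Agent.ProperNhd

variable {A : Type u} [CommRing A] {X : Scheme.{u}}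

theorem toSpecΓ_aHom (f : X ⟶ Spec (CommRingCat.of A)) (U : X.Opens) :
    U.toSpecΓ ≫ Spec.map (CommRingCat.ofHom (aHom f U)) = U.ι ≫ f := by
  rw [show CommRingCat.ofHom (aHom f U) = (Scheme.ΓSpecIso (CommRingCat.of A)).inv ≫ f.appLE ⊤ U le_top
    from rfl, Spec.map_comp, Scheme.Opens.toSpecΓ_SpecMap_appLE_assoc]
  refine Eq.trans ?_ (Scheme.Hom.resLE_comp_ι f (show U ≤ f ⁻¹ᵁ (⊤ : (Spec (CommRingCat.of A)).Opens) from le_top))
  congr 1
  rw [← (isAffineOpen_top (Spec (CommRingCat.of A))).toSpecΓ_fromSpec, IsAffineOpen.fromSpec_top,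
    Scheme.isoSpec_Spec_inv]

variable {f : X ⟶ Spec (CommRingCat.of A)} (D : Data f) [IsSeparated f]

theorem isClosedImmersion_chart {i : Fin D.m} {J : D.κ} (hJ : J i = 0) :
    IsClosedImmersion (D.p ∣_ Proj.basicOpen (CohB1.polyGrading D.N A) (D.T J)) := by
  let Dp := Proj.basicOpen (CohB1.polyGrading D.N A) (D.T J)
  let t := CohB1.ProjSpace.toSpec D.N A
  let O : D.X'.Opens := D.O J
  have hOle : O ≤ D.π ⁻¹ᵁ D.U i := D.O_le hJ
  let b : O.toScheme ⟶ D.U i := D.π.resLE (D.U i) O hOle
  let z : O.toScheme ⟶ Dp := D.p ∣_ Dp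
  let c : O.toScheme ⟶ pullback ((D.U i).ι ≫ f) (Dp.ι ≫ t) := pullback.lift b z (by
    rw [← Category.assoc, ← Category.assoc, Scheme.Hom.resLE_comp_ι, morphismRestrict_ι, Category.assoc,
      Category.assoc, D.π_f])
  let m : pullback ((D.U i).ι ≫ f) (Dp.ι ≫ t) ⟶ pullback f t :=
    pullback.map _ _ _ _ (D.U i).ι Dp.ι (𝟙 _) (Category.comp_id _) (Category.comp_id _)
  have hcm : c ≫ m = O.ι ≫ D.ι := by
    refine pullback.hom_ext ?_ ?_
    · simp only [c, m, pullback.map, Category.assoc, pullback.lift_fst, pullback.lift_fst_assoc]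
      exact Scheme.Hom.resLE_comp_ι _ _
    · simp only [c, m, pullback.map, Category.assoc, pullback.lift_snd, pullback.lift_snd_assoc]
      exact morphismRestrict_ι _ _
  have hc : IsClosedImmersion c := by
    have : IsPreimmersion (c ≫ m) := by rw [hcm]; infer_instance
    have : IsPreimmersion c := IsPreimmersion.of_comp c m
    refine IsClosedImmersion.of_isPreimmersion c ?_
    have : Set.range c = m ⁻¹' Set.range D.ι := by
      refine Set.Subset.antisymm ?_ ?_
      · rintro _ ⟨x, rfl⟩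
        refine ⟨O.ι x, ?_⟩
        rw [← Scheme.Hom.comp_apply, ← hcm, Scheme.Hom.comp_apply]
      · intro w ⟨x, hx⟩
        have hxO : x ∈ O := by
          show D.p x ∈ Dp
          have : pullback.snd f t (D.ι x) = Dp.ι (pullback.snd ((D.U i).ι ≫ f) (Dp.ι ≫ t) w) := by
            rw [hx, ← Scheme.Hom.comp_apply, ← Scheme.Hom.comp_apply]
            simp [m]
          rw [Data.p, Scheme.Hom.comp_apply]
          exact this ▸ (pullback.snd ((D.U i).ι ≫ f) (Dp.ι ≫ t) w).2
        refine ⟨⟨x, hxO⟩, m.isOpenEmbedding.injective ?_⟩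
        rw [← hx, ← Scheme.Hom.comp_apply, hcm]
        rfl
    rw [this]
    exact D.ι.isClosedEmbedding.isClosed_range.preimage m.continuous
  let P := MvPolynomial (Fin (D.k i)) A
  let ev : P →+* Γ(X, D.U i) := eval₂Hom (aHom f (D.U i)) (D.s i)
  let rt : P →+* Γ(CohB1.ProjSpace D.N A, Dp) := eval₂Hom (aHom t Dp)
    fun a => PnCoh.Finite.ratio (D.T_mem J) (D.T_mem (Function.update J i a.succ))
  let e : (D.U i).toScheme ⟶ Spec (CommRingCat.of P) := (D.U i).toSpecΓ ≫ Spec.map (CommRingCat.ofHom ev)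
  have he : IsClosedImmersion e := by
    have := (D.hU i)
    have h1 : IsClosedImmersion (Spec.map (CommRingCat.ofHom ev)) :=
      IsClosedImmersion.spec_of_surjective _ (D.hgen i)
    have : IsIso (D.U i).toSpecΓ := by
      rw [← (D.hU i).isoSpec_hom]
      infer_instance
    infer_instance
  let h : Dp.toScheme ⟶ Spec (CommRingCat.of P) := Dp.toSpecΓ ≫ Spec.map (CommRingCat.ofHom rt)
  have hzh : b ≫ e = z ≫ h := by
    have hz : z = D.p.resLE Dp O le_rfl := (Scheme.Hom.resLE_eq_morphismRestrict (f := D.p) (U := Dp)).symm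
    simp only [e, h, b, hz, ← Scheme.Opens.toSpecΓ_SpecMap_appLE_assoc, ← Spec.map_comp]
    congr 2
    refine CommRingCat.hom_ext (MvPolynomial.ringHom_ext (fun a => ?_) fun a => ?_)
    · simp only [CommRingCat.hom_comp, CommRingCat.hom_ofHom, ev, rt, RingHom.comp_apply, eval₂Hom_C]
      refine (congrArg (fun φ : A →+* _ => φ a) (aHom_comp f D.π (D.U i) O hOle)).trans
        (Eq.trans ?_ (congrArg (fun φ : A →+* _ => φ a) (aHom_comp t D.p Dp O le_rfl)).symm)
      rw [D.π_f]
    · simp only [CommRingCat.hom_comp, CommRingCat.hom_ofHom, ev, rt, RingHom.comp_apply, eval₂Hom_X']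
      refine (D.π_s hJ a).trans ?_
      rw [Data.r, Scheme.Hom.app_eq_appLE]
  let R := pullback e h
  have hC1 : e ≫ Spec.map (CommRingCat.ofHom (C : A →+* P)) = (D.U i).ι ≫ f := by
    rw [← toSpecΓ_aHom f, Category.assoc, ← Spec.map_comp, ← CommRingCat.ofHom_comp]
    rw [show ev.comp C = aHom f (D.U i) from RingHom.ext fun a => eval₂Hom_C _ _ a]
  have hC2 : h ≫ Spec.map (CommRingCat.ofHom (C : A →+* P)) = Dp.ι ≫ t := by
    rw [← toSpecΓ_aHom t, Category.assoc, ← Spec.map_comp, ← CommRingCat.ofHom_comp]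
    rw [show rt.comp C = aHom t Dp from RingHom.ext fun a => eval₂Hom_C _ _ a]
  let incl : R ⟶ pullback ((D.U i).ι ≫ f) (Dp.ι ≫ t) := pullback.lift (pullback.fst e h) (pullback.snd e h) (by
    rw [← hC1, ← hC2, pullback.condition_assoc])
  let l : O.toScheme ⟶ R := pullback.lift b z hzh
  have hl : l ≫ incl = c := by
    refine pullback.hom_ext ?_ ?_ <;> simp [l, incl, c]
  have : IsClosedImmersion (pullback.snd e h) := MorphismProperty.pullback_snd _ _ he
  have : IsSeparated incl := by
    have h1 : IsSeparated (incl ≫ pullback.snd _ _) := by simp only [incl, pullback.lift_snd]; infer_instance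
    exact IsSeparated.of_comp incl (pullback.snd _ _)
  have : IsClosedImmersion (l ≫ incl) := hl ▸ hc
  have : IsClosedImmersion l := IsClosedImmersion.of_comp l incl
  have hlz : z = l ≫ pullback.snd e h := (pullback.lift_snd _ _ _).symm
  show IsClosedImmersion z
  rw [hlz]
  infer_instance

theorem isImmersion_p : IsImmersion D.p := by
  let ι := {q : Fin D.m × D.κ // q.2 q.1 = 0}
  let V : (CohB1.ProjSpace D.N A).Opens := ⨆ q : ι, Proj.basicOpen (CohB1.polyGrading D.N A) (D.T q.1.2)
  have hV : IsClosedImmersion (D.p ∣_ V) := by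
    refine IsZariskiLocalAtTarget.of_iSup_eq_top (P := @IsClosedImmersion)
      (fun q : ι => V.ι ⁻¹ᵁ Proj.basicOpen (CohB1.polyGrading D.N A) (D.T q.1.2)) ?_ fun q => ?_
    · rw [← Scheme.Hom.preimage_iSup, Scheme.Opens.ι_preimage_self]
    · refine (MorphismProperty.arrow_mk_iso_iff @IsClosedImmersion ?_).2 (isClosedImmersion_chart D q.2)
      refine morphismRestrictRestrict D.p V _ ≪≫ morphismRestrictEq D.p ?_
      rw [Scheme.Hom.image_preimage_eq_opensRange_inf, Scheme.Opens.opensRange_ι]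
      exact inf_eq_right.2 (le_iSup (fun q : ι => Proj.basicOpen _ (D.T q.1.2)) q)
  have htop : D.p ⁻¹ᵁ V = ⊤ := top_unique fun x _ => by
    obtain ⟨i, J, hJ, hx⟩ := D.exists_good x
    exact Opens.mem_iSup.2 ⟨⟨(i, J), hJ⟩, hx⟩
  have : D.p = (D.X'.topIso.inv ≫ D.X'.homOfLE htop.ge) ≫ (D.p ∣_ V) ≫ V.ι := by
    rw [morphismRestrict_ι, Category.assoc, Scheme.homOfLE_ι_assoc, Scheme.toIso_inv_ι_assoc]
  rw [this]
  have : IsIso (D.X'.homOfLE htop.ge) := by
    rw [← D.X'.isoOfEq_hom htop.symm]; infer_instance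
  infer_instance

end Groth.Agent.ProperNhd
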