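import Groth.Agent.ProperNhd.PointMaps
import Groth.Agent.H23.RedSub

/-!
# Properness near a point of a closed subset, rational points of fibres
-/

universe u

open CategoryTheory CategoryTheory.Limits AlgebraicGeometry TopologicalSpace IsLocalRing

set_option backward.isDefEq.respectTransparency false
set_option backward.isDefEq.respectTransparency.types false

namespace Groth.Agent.ProperNhd

variable {X Y : Scheme.{u}}

theorem exists_fac_fromSpecResidueField {K : Type u} [Field K] (a : Spec (CommRingCat.of K) ⟶ X) {x : X}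
    (h : a (closedPoint K) = x) :
    ∃ φ : X.residueField x ⟶ CommRingCat.of K, Spec.map φ ≫ X.fromSpecResidueField x = a := by
  subst h
  exact ⟨_, Scheme.descResidueField_stalkClosedPointTo_fromSpecResidueField K X a⟩

/-- Two points with values in a field are equal if they agree at a point rational over the image. -/
theorem ext_of_residueFieldMap_surjective {K : Type u} [Field K] (q : X ⟶ Y) {x : X}
    (hr : Function.Surjective (q.residueFieldMap x)) (a b : Spec (CommRingCat.of K) ⟶ X)
    (ha : a (closedPoint K) = x) (hb : b (closedPoint K) = x) (h : a ≫ q = b ≫ q) : a = b := by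
  obtain ⟨φ, rfl⟩ := exists_fac_fromSpecResidueField a ha
  obtain ⟨φ', rfl⟩ := exists_fac_fromSpecResidueField b hb
  have : IsIso (q.residueFieldMap x) :=
    (ConcreteCategory.isIso_iff_bijective (q.residueFieldMap x)).2 ⟨(q.residueFieldMap x).hom.injective, hr⟩
  have hm : Mono (X.fromSpecResidueField x ≫ q) := by
    rw [← Scheme.Hom.SpecMap_residueFieldMap_fromSpecResidueField]
    infer_instance
  congr 1
  rw [← cancel_mono (X.fromSpecResidueField x ≫ q), ← Category.assoc, ← Category.assoc]
  exact h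

theorem genMap_closedPoint (A : Type u) [CommRing A] [IsDomain A] :
    genMap A (closedPoint (FractionRing A)) = genericPoint (Spec (CommRingCat.of A)) := by
  refine ((genericPoint_spec _).eq ?_).symm
  have : genMap A (closedPoint (FractionRing A)) = (⟨⊥, Ideal.isPrime_bot⟩ : PrimeSpectrum A) := by
    refine PrimeSpectrum.ext ?_
    change (IsLocalRing.maximalIdeal (FractionRing A)).comap (algebraMap A (FractionRing A)) = ⊥
    rw [IsLocalRing.isField_iff_maximalIdeal_eq.1 (Field.toIsField _), ← RingHom.ker]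
    exact (RingHom.injective_iff_ker_eq_bot _).1 (IsFractionRing.injective A _)
  rw [this]
  refine Set.eq_univ_of_forall fun t => ?_
  exact ((PrimeSpectrum.le_iff_specializes (⟨⊥, Ideal.isPrime_bot⟩ : PrimeSpectrum A) t).1 bot_le).mem_closure

set_option maxHeartbeats 1000000 in
theorem residueFieldMap_surjective_aux {A K : Type u} [CommRing A] [Field K] [Algebra A K] [IsFractionRing A K]
    (q : X ⟶ Spec (CommRingCat.of A)) (x : X) (φ : X.residueField x ⟶ CommRingCat.of K)
    (h : Spec.map φ ≫ X.fromSpecResidueField x ≫ q = Spec.map (CommRingCat.ofHom (algebraMap A K))) :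
    Function.Surjective (q.residueFieldMap x) := by
  let p : PrimeSpectrum A := q x
  let τ : CommRingCat.of A ⟶ (Spec (CommRingCat.of A)).residueField (q x) :=
    CommRingCat.ofHom (algebraMap A p.asIdeal.ResidueField) ≫ (Scheme.Spec.residueFieldIso (CommRingCat.of A) p).inv
  have hfR : Spec.map τ = (Spec (CommRingCat.of A)).fromSpecResidueField (q x) :=
    (Spec.map_comp _ _).trans
      (Scheme.Spec.map_residueFieldIso_inv_eq_fromSpecResidueField (CommRingCat.of A) p)
  have hτ : τ ≫ q.residueFieldMap x ≫ φ = CommRingCat.ofHom (algebraMap A K) := by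
    apply Spec.map_injective
    rw [Spec.map_comp τ, Spec.map_comp, hfR, Category.assoc,
      q.SpecMap_residueFieldMap_fromSpecResidueField, h]
  intro z
  clear_value τ
  obtain ⟨a, b, hb, hab⟩ := IsFractionRing.div_surjective (A := A) (φ z)
  refine ⟨τ a / τ b, φ.hom.injective ?_⟩
  have hh : ∀ r : A, φ (q.residueFieldMap x (τ r)) = algebraMap A K r :=
    fun r => ConcreteCategory.congr_hom hτ r
  rw [map_div₀ (q.residueFieldMap x).hom, map_div₀ φ.hom]
  exact ((congrArg₂ (· / ·) (hh a) (hh b))).trans hab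

theorem residueFieldMap_surjective_of_section {A : Type u} [CommRing A] [IsDomain A]
    (q : X ⟶ Spec (CommRingCat.of A)) (σ : Spec (CommRingCat.of (FractionRing A)) ⟶ X) (hσ : σ ≫ q = genMap A) :
    Function.Surjective (q.residueFieldMap (σ (closedPoint (FractionRing A)))) := by
  obtain ⟨φ, hφ⟩ := exists_fac_fromSpecResidueField σ rfl
  exact residueFieldMap_surjective_aux q _ φ (by rw [← Category.assoc, hφ]; exact hσ)

theorem exists_lift_of_bijective_residueFieldMap {A K : Type u} [CommRing A] [Field K] [Algebra A K]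
    (q : X ⟶ Spec (CommRingCat.of A)) (x : X) (hr : Function.Bijective (q.residueFieldMap x))
    (hx : Spec.map (CommRingCat.ofHom (algebraMap A K)) (closedPoint K) = q x) :
    ∃ σ : Spec (CommRingCat.of K) ⟶ X,
      σ ≫ q = Spec.map (CommRingCat.ofHom (algebraMap A K)) ∧ σ (closedPoint K) = x := by
  obtain ⟨d, hd⟩ := exists_fac_fromSpecResidueField (Spec.map (CommRingCat.ofHom (algebraMap A K))) hx
  have : IsIso (q.residueFieldMap x) := (ConcreteCategory.isIso_iff_bijective _).2 hr
  refine ⟨Spec.map (inv (q.residueFieldMap x) ≫ d) ≫ X.fromSpecResidueField x, ?_, ?_⟩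
  · rw [Spec.map_comp, Category.assoc, Category.assoc, ← q.SpecMap_residueFieldMap_fromSpecResidueField,
      ← Spec.map_comp_assoc (q.residueFieldMap x), IsIso.hom_inv_id, Spec.map_id, Category.id_comp, hd]
  · rw [Scheme.Hom.comp_apply]
    exact Scheme.fromSpecResidueField_apply _ _

/-- Properness of the reduced closed subscheme on a closed subset of `f⁻¹ U`. -/
theorem isProper_vanishingIdeal_iff (f : X ⟶ Y) (U : Y.Opens) {T : Scheme.{u}} [IsReduced T] (j : T ⟶ X)
    [IsClosedImmersion j] {S : Set X} (hS : Set.range j = S) (hC : IsClosed ((f ⁻¹ᵁ U).ι.base ⁻¹' S)) :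
    IsProper ((Scheme.IdealSheafData.vanishingIdeal
      (⟨(f ⁻¹ᵁ U).ι.base ⁻¹' S, hC⟩ : TopologicalSpace.Closeds ↥(f ⁻¹ᵁ U))).subschemeι ≫ (f ∣_ U)) ↔
      IsProper ((j ≫ f) ∣_ U) := by
  let C : TopologicalSpace.Closeds ↥((f ⁻¹ᵁ U).toScheme) := ⟨_, hC⟩
  let a := (Scheme.IdealSheafData.vanishingIdeal C).subschemeι
  let b := j ∣_ (f ⁻¹ᵁ U)
  have : IsClosedImmersion b := IsZariskiLocalAtTarget.restrict (P := @IsClosedImmersion) inferInstance _
  have : IsReduced (Scheme.IdealSheafData.vanishingIdeal C).subscheme := H23.RedSub.isReduced_vanishingIdeal C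
  have : IsReduced (j ⁻¹ᵁ (f ⁻¹ᵁ U)).toScheme := isReduced_of_isOpenImmersion (j ⁻¹ᵁ (f ⁻¹ᵁ U)).ι
  have hra : Set.range a = (f ⁻¹ᵁ U).ι.base ⁻¹' S := H23.RedSub.range_vanishingIdeal C
  have hrb : Set.range b = (f ⁻¹ᵁ U).ι.base ⁻¹' S := by
    refine Set.Subset.antisymm ?_ ?_
    · rintro _ ⟨t, rfl⟩
      exact hS.subset ⟨t.1, (morphismRestrict_base_coe j _ t).symm⟩
    · intro v hv
      obtain ⟨t, ht⟩ := hS.ge hv
      refine ⟨⟨t, ?_⟩, Subtype.ext ((morphismRestrict_base_coe j _ _).trans ht)⟩
      show j t ∈ f ⁻¹ᵁ U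
      exact ht ▸ v.2
  obtain ⟨u, hu⟩ := H23.RedSub.exists_lift_closed a b (by rw [hra, hrb])
  obtain ⟨v, hv⟩ := H23.RedSub.exists_lift_closed b a (by rw [hra, hrb])
  have : IsIso u := ⟨v, by rw [← cancel_mono a, Category.assoc, hv, hu, Category.id_comp],
    by rw [← cancel_mono b, Category.assoc, hu, hv, Category.id_comp]⟩
  rw [morphismRestrict_comp]
  refine MorphismProperty.arrow_mk_iso_iff @IsProper (Arrow.isoMk (asIso u) (Iso.refl _) ?_)
  simp only [Arrow.mk_hom, asIso_hom, Iso.refl_hom, Category.comp_id]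
  exact (Category.assoc _ _ _).symm.trans (congrArg (· ≫ (f ∣_ U)) hu)

end Groth.Agent.ProperNhd
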