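import Groth.Agent.ProperNhd.ChowImm
import Groth.Agent.ConsPropLib.FibreProper
import Groth.Agent.FibDim.Comp
import Groth.Agent.ProperComp7.Main
import Groth.Agent.H23.RedSub

/-!
# Lifting a proper clopen part of the closed fibre over a complete local ring (EGA III 5.5.1)
-/

universe u

open CategoryTheory CategoryTheory.Limits AlgebraicGeometry TopologicalSpace IsLocalRing

set_option backward.isDefEq.respectTransparency false
set_option backward.isDefEq.respectTransparency.types false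

namespace Groth.Agent.ProperNhd

variable {A : Type u} [CommRing A] [IsLocalRing A]

theorem range_closedFibre {X : Scheme.{u}} (f : X ⟶ Spec (CommRingCat.of A)) :
    Set.range (pullback.fst f (Spec.map (CommRingCat.ofHom (Ideal.Quotient.mk (maximalIdeal A))))) =
      f ⁻¹' {closedPoint A} := by
  rw [Scheme.Pullback.range_fst]
  congr 1
  change Set.range (PrimeSpectrum.comap (Ideal.Quotient.mk (maximalIdeal A))) = _
  rw [range_comap_of_surjective _ _ Ideal.Quotient.mk_surjective, Ideal.mk_ker]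
  ext p
  rw [PrimeSpectrum.mem_zeroLocus, SetLike.coe_subset_coe, Set.mem_singleton_iff]
  exact ⟨fun h => PrimeSpectrum.ext ((maximalIdeal.isMaximal A).eq_of_le p.isPrime.ne_top h).symm,
    fun h => h ▸ le_rfl⟩

theorem exists_specializes_closedFibre {X : Scheme.{u}} (f : X ⟶ Spec (CommRingCat.of A)) [UniversallyClosed f]
    (x : X) : ∃ z, x ⤳ z ∧ f z = closedPoint A := by
  have : (closedPoint A : Spec (CommRingCat.of A)) ∈ f '' closure {x} :=
    (IsLocalRing.specializes_closedPoint (f x)).mem_closed (f.isClosedMap _ isClosed_closure)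
      ⟨x, subset_closure rfl, rfl⟩
  obtain ⟨z, hz, hfz⟩ := this
  exact ⟨z, specializes_iff_mem_closure.2 hz, hfz⟩

variable [IsNoetherianRing A] [IsAdicComplete (maximalIdeal A) A]

set_option maxHeartbeats 1000000 in
theorem exists_clopen_proper {X : Scheme.{u}} (f : X ⟶ Spec (CommRingCat.of A)) [IsSeparated f]
    [LocallyOfFiniteType f] [QuasiCompact f] (W : Set X) (hWs : W ⊆ f ⁻¹' {closedPoint A})
    (hWc : IsClosed W) (hWo : ∃ O : Set X, IsOpen O ∧ O ∩ f ⁻¹' {closedPoint A} = W)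
    {TW : Scheme.{u}} (jW : TW ⟶ X) [IsClosedImmersion jW] (hjW : Set.range jW = W)
    (hWp : IsProper (jW ≫ f)) :
    ∃ V : X.Opens, IsClosed (V : Set X) ∧ IsProper (V.ι ≫ f) ∧ (V : Set X) ∩ f ⁻¹' {closedPoint A} = W := by
  obtain ⟨O, hO, hOW⟩ := hWo
  have : IsLocallyNoetherian X := LocallyOfFiniteType.isLocallyNoetherian f
  have : CompactSpace X := QuasiCompact.compactSpace_of_compactSpace f
  have : AlgebraicGeometry.IsNoetherian X := {}
  let ι := {Z : Set X // Z ∈ irreducibleComponents X}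
  have : Finite ι := (TopologicalSpace.NoetherianSpace.finite_irreducibleComponents).to_subtype
  choose T j hj hT hr hgen using fun k : ι => ConsPropLib.exists_integral_closure k.2.1.genericPoint
  have hcomp : ∀ k : ι, closure {k.2.1.genericPoint} = k.1 := fun k => by
    rw [k.2.1.isGenericPoint_genericPoint_closure.def, (isClosed_of_mem_irreducibleComponents _ k.2).closure_eq]
  let F : ∀ k, T k ⟶ Spec (CommRingCat.of A) := fun k => j k ≫ f
  have : ∀ k, IsSeparated (F k) := fun k => inferInstance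
  let D := fun k => (PnCoh.Chow.exists_data (F k)).some
  have : ∀ k, IsDominant (D k).π := fun k => by
    have : IsDominant ((D k).γ ≫ (D k).π) := by rw [(D k).γ_π]; exact (D k).dominant
    exact IsDominant.of_comp (D k).γ (D k).π
  let ρ : ∀ k, (D k).X' ⟶ X := fun k => (D k).π ≫ j k
  have : ∀ k, IsProper (ρ k) := fun k => inferInstance
  have hsurj : ∀ x : X, ∃ (k : ι) (z : (D k).X'), ρ k z = x := fun x => by
    let k : ι := ⟨_, irreducibleComponent_mem_irreducibleComponents x⟩
    obtain ⟨t, ht⟩ : x ∈ Set.range (j k) := by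
      rw [hr, hcomp]; exact mem_irreducibleComponent
    have : Surjective (D k).π := inferInstance
    obtain ⟨z, hz⟩ := (D k).π.surjective t
    exact ⟨k, z, by rw [Scheme.Hom.comp_apply, hz, ht]⟩
  -- the compactifications of the modifications
  let q₀ : ∀ k, CohB1.ProjSpace (D k).N A ⟶ Spec (CommRingCat.of A) := fun k => CohB1.ProjSpace.toSpec (D k).N A
  let S : ∀ k, Closeds (CohB1.ProjSpace (D k).N A) := fun k => Closeds.closure (Set.range (D k).p)
  let P : ι → Scheme.{u} := fun k => (Scheme.IdealSheafData.vanishingIdeal (S k)).subscheme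
  let jP : ∀ k, P k ⟶ CohB1.ProjSpace (D k).N A :=
    fun k => (Scheme.IdealSheafData.vanishingIdeal (S k)).subschemeι
  have hP : ∀ k, IsReduced (P k) := fun k => H23.RedSub.isReduced_vanishingIdeal _
  have hjP : ∀ k, Set.range (jP k) = closure (Set.range (D k).p) := fun k => H23.RedSub.range_vanishingIdeal _
  choose p' hp' using fun k => H23.RedSub.exists_lift_closed (D k).p (jP k) ((hjP k).symm ▸ subset_closure)
  have himm : ∀ k, IsImmersion (D k).p := fun k => isImmersion_p (D k)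
  have himm' : ∀ k, IsImmersion (p' k) := fun k => by
    have : IsImmersion (p' k ≫ jP k) := (hp' k).symm ▸ himm k
    exact IsImmersion.of_comp (p' k) (jP k)
  have hop : ∀ k, IsOpenImmersion (p' k) := fun k =>
    H23.RedSub.isOpenImmersion_of_isOpen_range _ (H23.RedSub.isOpen_range_of_comp (p' k) (jP k) (D k).p (hp' k) (hjP k))
  let qP : ∀ k, P k ⟶ Spec (CommRingCat.of A) := fun k => jP k ≫ q₀ k
  have hqP : ∀ k, IsProper (qP k) := fun k => by
    have := PnCoh.Chow.isProper_toSpec (D k).N A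
    infer_instance
  have hρ : ∀ k, p' k ≫ qP k = ρ k ≫ f := fun k => by
    show p' k ≫ jP k ≫ q₀ k = _
    rw [reassoc_of% hp' k]
    exact ((D k).π_f).symm.trans (by simp [F, ρ])
  -- the clopens
  have key : ∀ k, ∃ U : (P k).Opens, IsClosed (U : Set (P k)) ∧ (U : Set (P k)) ⊆ Set.range (p' k) ∧
      ∀ z, (qP k) (p' k z) = closedPoint A → (p' k z ∈ U ↔ ρ k z ∈ W) := by
    intro k
    let W' : Closeds (D k).X' := ⟨ρ k ⁻¹' W, hWc.preimage (ρ k).continuous⟩
    let jW' := (Scheme.IdealSheafData.vanishingIdeal W').subschemeι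
    have hW' : Set.range jW' = ρ k ⁻¹' W := H23.RedSub.range_vanishingIdeal W'
    have : IsReduced (Scheme.IdealSheafData.vanishingIdeal W').subscheme := H23.RedSub.isReduced_vanishingIdeal W'
    obtain ⟨u, hu⟩ := H23.RedSub.exists_lift_closed (jW' ≫ ρ k) jW (by
      rintro _ ⟨t, rfl⟩
      rw [hjW]
      exact hW'.subset ⟨t, rfl⟩)
    have : IsProper (u ≫ jW) := hu ▸ inferInstance
    have : IsProper u := IsProper.of_comp u jW
    have : IsProper ((jW' ≫ p' k) ≫ qP k) := by
      rw [Category.assoc, hρ, ← Category.assoc, ← hu, Category.assoc]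
      infer_instance
    have : IsProper (jW' ≫ p' k) := IsProper.of_comp _ (qP k)
    have hcl : IsClosed (p' k '' (ρ k ⁻¹' W)) := by
      rw [← hW', ← Set.range_comp]
      exact (jW' ≫ p' k).isClosedMap.isClosed_range
    let i := pullback.fst (qP k) (Spec.map (CommRingCat.ofHom (Ideal.Quotient.mk (maximalIdeal A))))
    have hi : Set.range i = qP k ⁻¹' {closedPoint A} := range_closedFibre (qP k)
    have hin : ∀ v, (i v ∈ p' k '' (ρ k ⁻¹' W) ↔ i v ∈ p' k '' (ρ k ⁻¹' O)) := by
      intro v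
      constructor
      · rintro ⟨z, hz, hzv⟩
        exact ⟨z, (hOW.ge hz).1, hzv⟩
      · rintro ⟨z, hz, hzv⟩
        refine ⟨z, hOW.le ⟨hz, ?_⟩, hzv⟩
        show f (ρ k z) = closedPoint A
        have : qP k (p' k z) = closedPoint A := by
          rw [hzv]
          exact hi.subset ⟨v, rfl⟩
        rwa [← Scheme.Hom.comp_apply, hρ, Scheme.Hom.comp_apply] at this
    have hV : IsClopen (i ⁻¹' (p' k '' (ρ k ⁻¹' W))) := by
      refine ⟨hcl.preimage i.continuous, ?_⟩
      rw [show i ⁻¹' (p' k '' (ρ k ⁻¹' W)) = i ⁻¹' (p' k '' (ρ k ⁻¹' O)) from Set.ext hin]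
      exact (((p' k).isOpenEmbedding.isOpenMap _ (hO.preimage (ρ k).continuous))).preimage i.continuous
    obtain ⟨U, ⟨hU, hUV⟩, -⟩ := ProperComp7.exists_lift_clopen (qP k) _ hV
    refine ⟨⟨U, hU.2⟩, hU.1, ?_, ?_⟩
    · intro v hv
      by_contra hn
      let B : Closeds (P k) := ⟨U ∩ (Set.range (p' k))ᶜ, hU.1.inter (p' k).isOpenEmbedding.isOpen_range.isClosed_compl⟩
      let jB := (Scheme.IdealSheafData.vanishingIdeal B).subschemeι
      have hjB : Set.range jB = (B : Set (P k)) := H23.RedSub.range_vanishingIdeal B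
      obtain ⟨b, hb⟩ := hjB.ge (show v ∈ (B : Set (P k)) from ⟨hv, hn⟩)
      obtain ⟨b', -, hb's⟩ := exists_specializes_closedFibre (jB ≫ qP k) b
      have hbB : jB b' ∈ (B : Set (P k)) := hjB.subset ⟨b', rfl⟩
      obtain ⟨w, hw⟩ : jB b' ∈ Set.range i := hi.ge hb's
      obtain ⟨z, -, hz⟩ := hUV.subset (show i w ∈ U from hw ▸ hbB.1)
      exact hbB.2 ⟨z, hz.trans hw⟩
    · intro z hz
      obtain ⟨w, hw⟩ : p' k z ∈ Set.range i := hi.ge hz
      show p' k z ∈ U ↔ _
      rw [← hw]
      refine (Set.ext_iff.1 hUV w).trans ?_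
      show i w ∈ p' k '' (ρ k ⁻¹' W) ↔ _
      rw [hw, (p' k).isOpenEmbedding.injective.mem_set_image]
      rfl
  choose U hUc hUr hUW using key
  let P1 : ∀ k, (D k).X'.Opens := fun k => p' k ⁻¹ᵁ U k
  have hP1 : ∀ k, IsProper ((P1 k).ι ≫ ρ k ≫ f) := fun k => by
    have : IsImmersion ((P1 k).ι ≫ p' k) := inferInstance
    have : IsClosedImmersion ((P1 k).ι ≫ p' k) := by
      refine IsClosedImmersion.of_isPreimmersion _ ?_
      rw [Scheme.Hom.comp_base, TopCat.coe_comp, Set.range_comp, Scheme.Opens.range_ι]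
      show IsClosed (p' k '' (p' k ⁻¹' (U k : Set (P k))))
      rw [Set.image_preimage_eq_of_subset (hUr k)]
      exact hUc k
    have : IsProper (((P1 k).ι ≫ p' k) ≫ qP k) := inferInstance
    rwa [Category.assoc, hρ] at this
  have hP1W : ∀ k (z : (D k).X'), f (ρ k z) = closedPoint A → (z ∈ P1 k ↔ ρ k z ∈ W) := fun k z hz =>
    hUW k z (by rwa [← Scheme.Hom.comp_apply, hρ, Scheme.Hom.comp_apply])
  let C : Set X := ⋃ k, ρ k '' (P1 k : Set (D k).X')
  have hCc : IsClosed C := isClosed_iUnion_of_finite fun k =>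
    (ρ k).isClosedMap _ ((hUc k).preimage (p' k).continuous)
  have hCW : C ∩ f ⁻¹' {closedPoint A} = W := by
    refine Set.Subset.antisymm ?_ fun w hw => ⟨?_, hWs hw⟩
    · rintro _ ⟨hc, hs⟩
      obtain ⟨k, z, hz, rfl⟩ := Set.mem_iUnion.1 hc
      exact (hP1W k z hs).1 hz
    · obtain ⟨k, z, rfl⟩ := hsurj w
      exact Set.mem_iUnion.2 ⟨k, z, (hP1W k z (hWs hw)).2 hw, rfl⟩
  have hint : ∀ w ∈ W, C ∈ nhds w := by
    intro w hw
    refine FibDim.mem_nhds_of_generizations (by
      simpa using FibDim.isLocallyConstructible_inter isOpen_univ hCc) fun x hxw => ?_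
    obtain ⟨k, z, rfl⟩ := hsurj x
    obtain ⟨z', hz', hz'w⟩ := (hxw.mem_closed ((ρ k).isClosedMap _ isClosed_closure)
      ⟨z, subset_closure rfl, rfl⟩ : w ∈ ρ k '' closure {z})
    have : z' ∈ P1 k := (hP1W k z' (hz'w ▸ hWs hw)).2 (hz'w ▸ hw)
    exact Set.mem_iUnion.2 ⟨k, z, (specializes_iff_mem_closure.2 hz').mem_open (P1 k).2 this, rfl⟩
  have hCo : IsOpen C := by
    rw [← subset_interior_iff_isOpen]
    intro x hx
    obtain ⟨k, z, hz, rfl⟩ := Set.mem_iUnion.1 hx
    have := hP1 k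
    obtain ⟨z', hzz', hz's⟩ := exists_specializes_closedFibre ((P1 k).ι ≫ ρ k ≫ f) ⟨z, hz⟩
    have h1 : ρ k z ⤳ ρ k ((P1 k).ι z') := (hzz'.map (P1 k).ι.continuous).map (ρ k).continuous
    exact h1.mem_open isOpen_interior
      (mem_interior_iff_mem_nhds.2 (hint _ ((hP1W k _ hz's).1 z'.2)))
  let V : X.Opens := ⟨C, hCo⟩
  refine ⟨V, hCc, ?_, hCW⟩
  have : IsClosedImmersion V.ι := IsClosedImmersion.of_isPreimmersion _ (by rw [Scheme.Opens.range_ι]; exact hCc)
  let u : ∀ k, (P1 k).toScheme ⟶ V := fun k => IsOpenImmersion.lift V.ι ((P1 k).ι ≫ ρ k) (by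
    rintro _ ⟨z, rfl⟩
    rw [Scheme.Opens.range_ι]
    exact Set.mem_iUnion.2 ⟨k, z.1, z.2, rfl⟩)
  have : ∀ k, UniversallyClosed (u k ≫ V.ι ≫ f) := fun k => by
    rw [IsOpenImmersion.lift_fac_assoc, Category.assoc]
    exact (hP1 k).toUniversallyClosed
  have : UniversallyClosed (V.ι ≫ f) :=
    ConsPropLib.universallyClosed_of_jointly_surjective (V.ι ≫ f) u fun x => by
      obtain ⟨k, z, hz, hzx⟩ := Set.mem_iUnion.1 x.2
      refine ⟨k, ⟨z, hz⟩, V.ι.isOpenEmbedding.injective ?_⟩
      rw [← Scheme.Hom.comp_apply, IsOpenImmersion.lift_fac]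
      exact hzx
  exact {}

end Groth.Agent.ProperNhd
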