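import Groth.Agent.ProperNhd.FlatFibre
import Groth.Agent.ProperNhd.Closure
import Groth.Agent.H23.LocNoethTop
import Groth.Agent.UnivOpen.Criterion
import Groth.Agent.ProConsLib.Image
import Groth.Agent.FComplLib.NearIso
import Groth.Prelude.Def_FDesc

/-!
# Properness near a point of a fibrewise component (EGA IV 15.7)
-/

universe u

open CategoryTheory CategoryTheory.Limits AlgebraicGeometry TopologicalSpace IsLocalRing

set_option backward.isDefEq.respectTransparency false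
set_option backward.isDefEq.respectTransparency.types false

namespace Groth.Agent.ProperNhd

variable {X Y : Scheme.{u}}

theorem locallyConnectedSpace_fiber (f : X ⟶ Y) [LocallyOfFiniteType f] (y : Y) :
    LocallyConnectedSpace ↥(f ⁻¹' {y}) := by
  have : LocallyOfFiniteType (f.fiberToSpecResidueField y) := MorphismProperty.pullback_snd _ _ inferInstance
  have : IsLocallyNoetherian (f.fiber y) :=
    LocallyOfFiniteType.isLocallyNoetherian (f.fiberToSpecResidueField y)
  have : LocallyConnectedSpace (f.fiber y) := H23.LocNoethTop.locallyConnectedSpace fun x => by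
    obtain ⟨_, ⟨(U : (f.fiber y).Opens), hU, rfl⟩, hxU, -⟩ :=
      (f.fiber y).isBasis_affineOpens.exists_subset_of_mem_open (Set.mem_univ x) isOpen_univ
    have : IsAffine U := hU
    have : IsNoetherian U.toScheme := { toCompactSpace := isCompact_iff_compactSpace.1 hU.isCompact }
    exact ⟨U, U.2.mem_nhds hxU, inferInstanceAs (NoetherianSpace U.toScheme)⟩
  exact (f.fiberHomeo y).symm.locallyConnectedSpace

/-- A connected component of a fibre is cut out by an open and by a closed set. -/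
theorem exists_open_closed_component (f : X ⟶ Y) [LocallyOfFiniteType f] (Z : Set X) {y : Y} {x : X}
    (hxy : f x = y) (h : Z ∩ f ⁻¹' {y} = connectedComponentIn (f ⁻¹' {y}) x) :
    (∃ O : Set X, IsOpen O ∧ O ∩ f ⁻¹' {y} = Z ∩ f ⁻¹' {y}) ∧
      ∃ C : Set X, IsClosed C ∧ C ∩ f ⁻¹' {y} = Z ∩ f ⁻¹' {y} := by
  have := locallyConnectedSpace_fiber f y
  have hx : x ∈ f ⁻¹' {y} := hxy
  rw [h, connectedComponentIn_eq_image hx]
  obtain ⟨O, hO, hO'⟩ := isOpen_induced_iff.1 (isClopen_connectedComponent (x := (⟨x, hx⟩ : ↥(f ⁻¹' {y})))).2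
  obtain ⟨C, hC, hC'⟩ := isClosed_induced_iff.1 (isClosed_connectedComponent (x := (⟨x, hx⟩ : ↥(f ⁻¹' {y}))))
  refine ⟨⟨O, hO, ?_⟩, ⟨C, hC, ?_⟩⟩
  · rw [← hO', Subtype.image_preimage_coe, Set.inter_comm]
  · rw [← hC', Subtype.image_preimage_coe, Set.inter_comm]

theorem isConnected_pullback_component {P Y' : Scheme.{u}} {p : P ⟶ X} {g : P ⟶ Y'} {f : X ⟶ Y} {h : Y' ⟶ Y}
    (hP : IsPullback p g f h) (Z : Set X) (q : Y') (hne : ∃ x ∈ Z, f x = h q)
    (hZ : ∀ (K : Type u) [Field K] [Algebra (ResidueField (Y.presheaf.stalk (h q))) K],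
      _root_.IsPreconnected ((FBase.bcπ (f.fiberToSpecResidueField (h q)) K ≫ f.fiberι (h q)).base ⁻¹' Z)) :
    _root_.IsConnected (g ⁻¹' {q} ∩ p ⁻¹' Z) := by
  refine ⟨?_, ?_⟩
  · obtain ⟨x, hxZ, hx⟩ := hne
    obtain ⟨z, hz1, hz2⟩ := Scheme.Pullback.exists_preimage_pullback (f := f) (g := h) x q hx
    refine ⟨hP.isoPullback.inv z, ?_, ?_⟩
    · show g (hP.isoPullback.inv z) = q
      rw [← Scheme.Hom.comp_apply, hP.isoPullback_inv_snd, hz2]
    · show p (hP.isoPullback.inv z) ∈ Z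
      rw [← Scheme.Hom.comp_apply, hP.isoPullback_inv_fst, hz1]
      exact hxZ
  · letI : Algebra (ResidueField (Y.presheaf.stalk (h q))) (Y'.residueField q) := (h.residueFieldMap q).hom.toAlgebra
    have H := isPullback_fiberToSpecResidueField_of_isPullback hP q
    have key := hZ (Y'.residueField q)
    let π : g.fiber q ⟶ X := pullback.fst g (Y'.fromSpecResidueField q) ≫ p
    have e1 : H.isoPullback.hom ≫ FBase.bcπ (f.fiberToSpecResidueField (h q)) (Y'.residueField q) ≫
        f.fiberι (h q) = π := by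
      rw [← Category.assoc]
      exact (congrArg (· ≫ f.fiberι (h q)) H.isoPullback_hom_fst).trans (pullback.lift_fst _ _ _)
    have hpre : _root_.IsPreconnected (π ⁻¹' Z) := by
      have h2 := key.image H.isoPullback.inv H.isoPullback.inv.continuous.continuousOn
      suffices hset : π ⁻¹' Z = H.isoPullback.inv ''
          ((FBase.bcπ (f.fiberToSpecResidueField (h q)) (Y'.residueField q) ≫ f.fiberι (h q)).base ⁻¹' Z) by
        rw [hset]; exact h2
      have e1' : ∀ v, (FBase.bcπ (f.fiberToSpecResidueField (h q)) (Y'.residueField q) ≫ f.fiberι (h q)).base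
          (H.isoPullback.hom v) = π v := fun v => by rw [← e1]; rfl
      have ei : ∀ w, H.isoPullback.hom (H.isoPullback.inv w) = w := fun w => by
        rw [← Scheme.Hom.comp_apply, Iso.inv_hom_id]; rfl
      have ei' : ∀ v, H.isoPullback.inv (H.isoPullback.hom v) = v := fun v => by
        rw [← Scheme.Hom.comp_apply, Iso.hom_inv_id]; rfl
      ext v
      constructor
      · exact fun hv => ⟨H.isoPullback.hom v, Set.mem_preimage.2 (by rw [e1' v]; exact hv), ei' v⟩
      · rintro ⟨w, hw, rfl⟩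
        show π (H.isoPullback.inv w) ∈ Z
        rw [← e1']
        rw [ei w]; exact hw
    have h3 := hpre.image (g.fiberι q) (g.fiberι q).continuous.continuousOn
    convert h3 using 1
    rw [show π ⁻¹' Z = g.fiberι q ⁻¹' (p ⁻¹' Z) from rfl, Set.image_preimage_eq_inter_range, g.range_fiberι,
      Set.inter_comm]

theorem isPreconnected_closedFibre {B : Type u} [CommRing B] [IsLocalRing B] [IsNoetherianRing B]
    [IsAdicComplete (maximalIdeal B) B] {T : Scheme.{u}} (g : T ⟶ Spec (CommRingCat.of B)) [IsProper g]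
    [PreconnectedSpace T] : _root_.IsPreconnected (g ⁻¹' {closedPoint B}) := by
  let i := pullback.fst g (Spec.map (CommRingCat.ofHom (Ideal.Quotient.mk (maximalIdeal B))))
  have : PreconnectedSpace ↥(pullback g (Spec.map (CommRingCat.ofHom (Ideal.Quotient.mk (maximalIdeal B))))) := by
    rw [preconnectedSpace_iff_clopen]
    intro V hV
    obtain ⟨U, ⟨hU, hUV⟩, -⟩ := ProperComp7.exists_lift_clopen g V hV
    rcases isClopen_iff.1 hU with rfl | rfl
    · exact Or.inl (by rw [← hUV, Set.preimage_empty])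
    · exact Or.inr (by rw [← hUV, Set.preimage_univ])
  rw [← range_closedFibre g, ← Set.image_univ]
  exact isPreconnected_univ.image i i.continuous.continuousOn

theorem eq_bot_of_ne_closedPoint {B : Type u} [CommRing B] [IsLocalRing B] [IsNoetherianRing B] {π : B}
    (hπ : maximalIdeal B = Ideal.span {π}) {q : Spec (CommRingCat.of B)} (hq : q ≠ closedPoint B) :
    q.asIdeal = ⊥ := by
  have hπq : π ∉ q.asIdeal := fun h => hq (PrimeSpectrum.ext ((le_maximalIdeal q.isPrime.ne_top).antisymm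
    (hπ.le.trans ((Ideal.span_singleton_le_iff_mem _).2 h))))
  refine Submodule.eq_bot_of_le_smul_of_le_jacobson_bot (maximalIdeal B) q.asIdeal (IsNoetherian.noetherian _)
    (fun x hx => ?_) (IsLocalRing.jacobson_eq_maximalIdeal ⊥ bot_ne_top).ge
  obtain ⟨y, rfl⟩ := Ideal.mem_span_singleton.1 (hπ.le (le_maximalIdeal q.isPrime.ne_top hx))
  exact Submodule.smul_mem_smul (hπ.ge (Ideal.mem_span_singleton_self π))
    ((q.isPrime.mem_or_mem hx).resolve_left hπq)

theorem isProConstructible_of_isLocallyConstructible {E : Set X} (h : Topology.IsLocallyConstructible E) :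
    ProCons.IsProConstructible E := fun _ =>
  ⟨Set.univ, isOpen_univ, trivial, {Subtype.val ⁻¹' E}, fun _ hT => hT ▸
    h.preimage_of_isOpenEmbedding isOpen_univ.isOpenEmbedding_subtypeVal, (Set.sInter_singleton _).symm⟩

/-- A subset cutting out a connected component, geometrically connected, in each fibre over the
generisations of `y`, universally submersive over them, with proper fibre at `y`. -/
structure CompData (f : X ⟶ Y) (y : Y) (Z : Set X) : Prop where
  loc : ∀ y' : Y, y' ⤳ y → (∃ O : Set X, IsOpen O ∧ O ∩ f ⁻¹' {y'} = Z ∩ f ⁻¹' {y'}) ∧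
    ∃ C : Set X, IsClosed C ∧ C ∩ f ⁻¹' {y'} = Z ∩ f ⁻¹' {y'}
  conn : ∀ {P Y' : Scheme.{u}} {p : P ⟶ X} {g : P ⟶ Y'} {h : Y' ⟶ Y}, IsPullback p g f h →
    ∀ q : Y', h q ⤳ y → _root_.IsConnected (g ⁻¹' {q} ∩ p ⁻¹' Z)
  sub : ∀ {P Y' : Scheme.{u}} {p : P ⟶ X} {g : P ⟶ Y'} {h : Y' ⟶ Y}, IsPullback p g f h →
    (∀ q, h q ⤳ y) → ∀ (E : Set Y') (W : Set P), IsOpen W → W ∩ p ⁻¹' Z = g ⁻¹' E ∩ p ⁻¹' Z → IsOpen E
  fibre : ∃ hop : IsOpen ((f.fiberι y).base ⁻¹' Z),
    IsProper (Scheme.Opens.ι (⟨(f.fiberι y).base ⁻¹' Z, hop⟩ : (f.fiber y).Opens) ≫ f.fiberToSpecResidueField y)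

variable [IsLocallyNoetherian Y] {y : Y} {f : X ⟶ Y} [IsSeparated f] [LocallyOfFiniteType f] [QuasiCompact f] {Z : Set X}

set_option maxHeartbeats 1000000 in
theorem CompData.completion (D : CompData f y Z) :
    ∃ V : (pullback f (fromCpl y)).Opens, IsProper (V.ι ≫ pullback.snd f (fromCpl y)) ∧
      pullback.fst f (fromCpl y) ⁻¹' Z ⊆ V ∧
      ∀ z x, z ⤳ x → pullback.fst f (fromCpl y) z ∈ Z → pullback.fst f (fromCpl y) x ∈ Z := by
  obtain ⟨hop, h2⟩ := D.fibre
  -- over the completion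
  let c := fromCpl y
  let f' := pullback.snd f c
  let p' := pullback.fst f c
  let Z' : Set ↥(pullback f c) := p' ⁻¹' Z
  let o : Spec (CommRingCat.of (EGA4.Cpl (Y.presheaf.stalk y))) := closedPoint _
  have hco : c o = y := fromCpl_closedPoint y
  have hc : ∀ q, c q ⤳ y := fun q =>
    ((IsLocalRing.specializes_closedPoint q).map c.continuous).trans (specializes_of_eq hco)
  have hconn : ∀ q, _root_.IsConnected (f' ⁻¹' {q} ∩ Z') := fun q =>
    D.conn (IsPullback.of_hasPullback f c) q (hc q)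
  obtain ⟨⟨O, hO, hOZ⟩, ⟨C, hC, hCZ⟩⟩ := D.loc y specializes_rfl
  let W : Set ↥(pullback f c) := f' ⁻¹' {o} ∩ Z'
  have hp'o : ∀ v, f' v = o → f (p' v) = y := fun v hv => by
    rw [← Scheme.Hom.comp_apply, pullback.condition, Scheme.Hom.comp_apply]
    exact (congrArg c hv).trans hco
  have hWC : W = p' ⁻¹' C ∩ f' ⁻¹' {o} := by
    ext v
    constructor
    · exact fun hv => ⟨(hCZ.ge ⟨hv.2, hp'o v hv.1⟩).1, hv.1⟩
    · exact fun hv => ⟨hv.2, (hCZ.le ⟨hv.1, hp'o v hv.2⟩).1⟩
  have hWc : IsClosed W := hWC ▸ (hC.preimage p'.continuous).inter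
    ((IsLocalRing.isClosed_singleton_closedPoint _).preimage f'.continuous)
  have hWo : ∃ O' : Set ↥(pullback f c), IsOpen O' ∧ O' ∩ f' ⁻¹' {o} = W :=
    ⟨p' ⁻¹' O, hO.preimage p'.continuous, by
      ext v
      exact ⟨fun hv => ⟨hv.2, (hOZ.le ⟨hv.1, hp'o v hv.2⟩).1⟩, fun hv => ⟨(hOZ.ge ⟨hv.2, hp'o v hv.1⟩).1, hv.1⟩⟩⟩
  have Hf := isPullback_fiberToSpecResidueField_of_isPullback (IsPullback.of_hasPullback f c) o
  obtain ⟨m, Hm, hm⟩ : ∃ m, IsPullback m (f'.fiberToSpecResidueField o) (f.fiberToSpecResidueField (c o))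
      (Spec.map (c.residueFieldMap o)) ∧ m ≫ f.fiberι (c o) = f'.fiberι o ≫ p' :=
    ⟨_, Hf, pullback.lift_fst _ _ _⟩
  obtain ⟨Oy, hOy, hOyP⟩ : ∃ Oy : (f.fiber (c o)).Opens, (Oy : Set (f.fiber (c o))) = f.fiberι (c o) ⁻¹' Z ∧
      IsProper (Oy.ι ≫ f.fiberToSpecResidueField (c o)) := by
    rw [hco]
    exact ⟨⟨_, hop⟩, rfl, h2⟩
  let jW := (m ⁻¹ᵁ Oy).ι ≫ f'.fiberι o
  have hjWr : Set.range jW = W := by
    have hpt : ∀ v, v ∈ (m ⁻¹ᵁ Oy : (f'.fiber o).Opens) ↔ p' (f'.fiberι o v) ∈ Z := fun v => by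
      have : f.fiberι (c o) (m v) = p' (f'.fiberι o v) := by
        rw [← Scheme.Hom.comp_apply, hm]; rfl
      show m v ∈ (Oy : Set (f.fiber (c o))) ↔ _
      rw [hOy, Set.mem_preimage, this]
    ext v
    constructor
    · rintro ⟨u, rfl⟩
      exact ⟨(f'.range_fiberι o).subset ⟨_, rfl⟩, (hpt _).1 u.2⟩
    · rintro ⟨hv, hvZ⟩
      obtain ⟨u, rfl⟩ := (f'.range_fiberι o).ge hv
      exact ⟨⟨u, (hpt u).2 hvZ⟩, rfl⟩
  have : IsClosedImmersion jW := IsClosedImmersion.of_isPreimmersion _ (hjWr ▸ hWc)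
  have hjWp : IsProper (jW ≫ f') := by
    have : IsProper ((m ⁻¹ᵁ Oy).ι ≫ f'.fiberToSpecResidueField o) :=
      MorphismProperty.of_isPullback (P := @IsProper) ((isPullback_morphismRestrict m Oy).paste_vert Hm) hOyP
    have : IsClosedImmersion ((Spec (CommRingCat.of (EGA4.Cpl (Y.presheaf.stalk y)))).fromSpecResidueField o) :=
      IsClosedImmersion.of_isPreimmersion _ (by
        rw [Scheme.range_fromSpecResidueField]; exact IsLocalRing.isClosed_singleton_closedPoint _)
    have he : jW ≫ f' = ((m ⁻¹ᵁ Oy).ι ≫ f'.fiberToSpecResidueField o) ≫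
        (Spec (CommRingCat.of (EGA4.Cpl (Y.presheaf.stalk y)))).fromSpecResidueField o := by
      simp only [jW, Category.assoc]
      exact congrArg _ pullback.condition
    rw [he]
    infer_instance
  obtain ⟨V, hVc, hVp, hVW⟩ := exists_clopen_proper f' W Set.inter_subset_left hWc hWo jW hjWr hjWp
  -- `Z'` lies in `V`
  have hdich : ∀ {q a b}, a ∈ f' ⁻¹' {q} ∩ Z' → a ∈ (V : Set ↥(pullback f c)) → b ∈ f' ⁻¹' {q} ∩ Z' →
      b ∈ (V : Set ↥(pullback f c)) := by
    intro q a b ha haV hb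
    by_contra hn
    obtain ⟨e, -, he⟩ := (hconn q).isPreconnected (V : Set ↥(pullback f c)) (V : Set ↥(pullback f c))ᶜ V.2
      hVc.isOpen_compl (fun x _ => Classical.em _) ⟨a, ha, haV⟩ ⟨b, hb, hn⟩
    exact he.2 he.1
  have hZV : Z' ⊆ V := by
    let E := f' '' ((V : Set ↥(pullback f c)) ∩ Z')
    have hE : IsOpen E := D.sub (IsPullback.of_hasPullback f c) hc E V V.2 (by
      ext v
      constructor
      · exact fun hv => ⟨⟨v, hv, rfl⟩, hv.2⟩
      · rintro ⟨⟨a, ha, hav⟩, hv⟩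
        exact ⟨hdich (q := f' v) ⟨hav, ha.2⟩ ha.1 ⟨rfl, hv⟩, hv⟩)
    obtain ⟨w, hw⟩ := (hconn o).nonempty
    intro v hv
    obtain ⟨a, ha, hav⟩ := (IsLocalRing.specializes_closedPoint (f' v)).mem_open hE
      ⟨w, ⟨(hVW.ge hw).1, hw.2⟩, hw.1⟩
    exact hdich (q := f' v) ⟨hav, ha.2⟩ ha.1 ⟨rfl, hv⟩
  -- `Z'` is stable under specialisation
  have : IsLocallyNoetherian (pullback f c) := LocallyOfFiniteType.isLocallyNoetherian f'
  have hspec : ∀ z x : ↥(pullback f c), z ⤳ x → z ∈ Z' → x ∈ Z' := by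
    intro z x hzx hz
    by_contra hx
    obtain ⟨A, _, _, _, τ, hτc, hτg⟩ := UnivOpen.exists_dvr_lift hzx (fun h => hx (h ▸ hz))
    have := FlatLoc6.isLocalRing_cpl A
    have := FlatLoc6.isNoetherianRing_cpl A
    have := FlatLoc6.faithfullyFlat_cpl A
    have fg : (maximalIdeal A).FG := IsNoetherian.noetherian _
    have : IsAdicComplete (maximalIdeal (EGA4.Cpl A)) (EGA4.Cpl A) := by
      rw [AdicCompletion.maximalIdeal_eq_map_of_fg fg]
      exact Adic7.isAdicComplete_completion _ fg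
    obtain ⟨ϖ, hϖ⟩ := IsDiscreteValuationRing.exists_irreducible A
    have hmB : maximalIdeal (EGA4.Cpl A) = Ideal.span {algebraMap A (EGA4.Cpl A) ϖ} := by
      refine (AdicCompletion.maximalIdeal_eq_map_of_fg fg).trans ?_
      refine (congrArg (Ideal.map (algebraMap A (EGA4.Cpl A))) ((IsDiscreteValuationRing.irreducible_iff_uniformizer ϖ).1 hϖ)).trans ?_
      rw [Ideal.map_span, Set.image_singleton]
    let B := EGA4.Cpl A
    let a := Spec.map (CommRingCat.ofHom (algebraMap A B))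
    have hsurj : Surjective a := ⟨PrimeSpectrum.comap_surjective_of_faithfullyFlat⟩
    let ob : Spec (CommRingCat.of B) := closedPoint B
    have hob : a ob = closedPoint A := by
      refine PrimeSpectrum.ext ((le_maximalIdeal (Ideal.IsPrime.ne_top inferInstance)).antisymm ?_)
      change maximalIdeal A ≤ (maximalIdeal B).comap (algebraMap A B)
      rw [AdicCompletion.maximalIdeal_eq_map_of_fg fg]
      exact Ideal.le_comap_map
    obtain ⟨qb, hqb⟩ := hsurj.surj (⟨⊥, Ideal.isPrime_bot⟩ : PrimeSpectrum A)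
    have hne : a qb ≠ closedPoint A := fun h => IsDiscreteValuationRing.not_a_field A
      (congrArg PrimeSpectrum.asIdeal (hqb.symm.trans h)).symm
    have hqbo : qb ≠ ob := fun h => hne (h ▸ hob)
    have huniq : ∀ q : Spec (CommRingCat.of B), q ≠ ob → q = qb := fun q hq => PrimeSpectrum.ext
      ((eq_bot_of_ne_closedPoint hmB hq).trans (eq_bot_of_ne_closedPoint hmB hqbo).symm)
    let b := a ≫ τ
    let h0 := b ≫ f'
    let g'' := pullback.snd f' h0
    let p'' := pullback.fst f' h0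
    have hP : IsPullback (p'' ≫ p') g'' f (h0 ≫ c) :=
      (IsPullback.of_hasPullback _ _).paste_horiz (IsPullback.of_hasPullback _ _)
    have hhy : ∀ q, (h0 ≫ c) q ⤳ y := fun q => by rw [Scheme.Hom.comp_apply]; exact hc _
    let σ : Spec (CommRingCat.of B) ⟶ pullback f' h0 := pullback.lift b (𝟙 _) (by rw [Category.id_comp])
    have hσg : ∀ q, g'' (σ q) = q := fun q => by
      rw [← Scheme.Hom.comp_apply, pullback.lift_snd]; rfl
    have hσp : ∀ q, p'' (σ q) = b q := fun q => by rw [← Scheme.Hom.comp_apply, pullback.lift_fst]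
    have hbo : b ob = x := by rw [Scheme.Hom.comp_apply, hob, hτc]
    have hbq : b qb = z := by rw [Scheme.Hom.comp_apply, hτg _ hne]
    let Z'' : Set ↥(pullback f' h0) := p'' ⁻¹' Z'
    have hZ''eq : (p'' ≫ p') ⁻¹' Z = Z'' := rfl
    have hσo : σ ob ∉ Z'' := fun h => hx (hbo ▸ hσp ob ▸ h)
    have hconn'' : ∀ q, _root_.IsConnected (g'' ⁻¹' {q} ∩ Z'') := fun q => hZ''eq ▸ D.conn hP q (hhy q)
    let S : Set ↥(pullback f' h0) := closure (g'' ⁻¹' {qb} ∩ Z'')
    have hS : _root_.IsPreconnected S := (hconn'' qb).isPreconnected.closure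
    have hσS : σ ob ∈ S := by
      refine specializes_iff_mem_closure.1 ((IsLocalRing.specializes_closedPoint qb).map σ.continuous) |>
        closure_mono ?_
      rintro _ rfl
      exact ⟨hσg qb, by show p'' (σ qb) ∈ Z'; rw [hσp, hbq]; exact hz⟩
    obtain ⟨w, hw, hwS⟩ : ∃ w ∈ g'' ⁻¹' {ob} ∩ Z'', w ∈ S := by
      by_contra! hn
      have hopen : IsOpen ({ob} : Set (Spec (CommRingCat.of B))) := D.sub hP hhy {ob} Sᶜ isClosed_closure.isOpen_compl (by
        rw [hZ''eq]
        ext v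
        constructor
        · rintro ⟨hv, hvZ⟩
          refine ⟨?_, hvZ⟩
          by_contra hne'
          exact hv (subset_closure ⟨huniq _ hne', hvZ⟩)
        · exact fun hv => ⟨hn v hv, hv.2⟩)
      exact hqbo ((IsLocalRing.specializes_closedPoint qb).mem_open hopen rfl)
    let Sc : Closeds ↥(pullback f' h0) := ⟨S, isClosed_closure⟩
    let jS := (Scheme.IdealSheafData.vanishingIdeal Sc).subschemeι
    have hrS : Set.range jS = S := H23.RedSub.range_vanishingIdeal Sc
    let VB : (pullback f' h0).Opens := p'' ⁻¹ᵁ V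
    have : IsProper (VB.ι ≫ g'') := MorphismProperty.of_isPullback (P := @IsProper)
      ((isPullback_morphismRestrict p'' V).paste_vert (IsPullback.of_hasPullback f' h0)) hVp
    have hSV : Set.range jS ⊆ Set.range VB.ι := by
      rw [hrS, Scheme.Opens.range_ι]
      exact closure_minimal (fun v hv => hZV hv.2) (hVc.preimage p''.continuous)
    let l := IsOpenImmersion.lift VB.ι jS hSV
    have : IsClosedImmersion (l ≫ VB.ι) := by rw [IsOpenImmersion.lift_fac]; infer_instance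
    have : IsClosedImmersion l := IsClosedImmersion.of_comp l VB.ι
    have : IsProper (jS ≫ g'') := by
      rw [← IsOpenImmersion.lift_fac VB.ι jS hSV, Category.assoc]
      infer_instance
    have hjSi : Topology.IsInducing jS := jS.isEmbedding.isInducing
    have : PreconnectedSpace ↥(Scheme.IdealSheafData.vanishingIdeal Sc).subscheme :=
      ⟨hjSi.isPreconnected_image.1 (by rw [Set.image_univ, hrS]; exact hS)⟩
    have hpre := (isPreconnected_closedFibre (jS ≫ g'')).image jS jS.continuous.continuousOn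
    have heq : jS '' ((jS ≫ g'') ⁻¹' {ob}) = g'' ⁻¹' {ob} ∩ S := by
      rw [← hrS, ← Set.image_preimage_eq_inter_range]
      rfl
    rw [heq] at hpre
    -- the component is clopen in the closed fibre
    have hyo : (h0 ≫ c) ob ⤳ y := hhy ob
    obtain ⟨⟨O₁, hO₁, hOZ₁⟩, ⟨C₁, hC₁, hCZ₁⟩⟩ := D.loc _ hyo
    let pr := p'' ≫ p'
    have hpr : ∀ v, g'' v = ob → f (pr v) = (h0 ≫ c) ob := fun v hv => by
      rw [← Scheme.Hom.comp_apply, hP.w, Scheme.Hom.comp_apply, hv]
    obtain ⟨e, he, he1, he2⟩ := hpre (pr ⁻¹' O₁) (pr ⁻¹' C₁)ᶜ (hO₁.preimage pr.continuous)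
      (hC₁.preimage pr.continuous).isOpen_compl
      (fun v hv => by
        by_cases hvZ : pr v ∈ Z
        · exact Or.inl (hOZ₁.ge ⟨hvZ, hpr v hv.1⟩).1
        · exact Or.inr fun hc => hvZ (hCZ₁.le ⟨hc, hpr v hv.1⟩).1)
      ⟨w, ⟨hw.1, hwS⟩, (hOZ₁.ge ⟨hw.2, hpr w hw.1⟩).1⟩
      ⟨σ ob, ⟨hσg ob, hσS⟩, fun hc => hσo (hCZ₁.le ⟨hc, hpr _ (hσg ob)⟩).1⟩
    exact he2 (hCZ₁.ge ⟨(hOZ₁.le ⟨he1, hpr e he.1⟩).1, hpr e he.1⟩).1
  exact ⟨V, hVp, hZV, hspec⟩

theorem exists_fromCpl_eq (y : Y) {y' : Y} (hy' : y' ⤳ y) : ∃ q, fromCpl y q = y' := by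
  have := (surjective_flat_cpl y).1
  obtain ⟨r, rfl⟩ : y' ∈ Set.range (Y.fromSpecStalk y) := by rw [Scheme.range_fromSpecStalk]; exact hy'
  obtain ⟨q, rfl⟩ := (Spec.map (CommRingCat.ofHom (algebraMap (Y.presheaf.stalk y) (EGA4.Cpl (Y.presheaf.stalk y))))).surjective r
  exact ⟨q, Scheme.Hom.comp_apply _ _ _⟩

theorem CompData.mem_of_specializes (D : CompData f y Z) {z x : X} (hxy : f x ⤳ y) (hz : z ∈ Z) (hzx : z ⤳ x) :
    x ∈ Z := by
  obtain ⟨V, -, -, hspec⟩ := D.completion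
  have : Flat (pullback.fst f (fromCpl y)) := MorphismProperty.pullback_fst _ _ inferInstance
  obtain ⟨q, hq⟩ := exists_fromCpl_eq y hxy
  obtain ⟨x', hx', -⟩ := Scheme.Pullback.exists_preimage_pullback (f := f) (g := fromCpl y) x q hq.symm
  obtain ⟨z', hz', rfl⟩ := Flat.generalizingMap (pullback.fst f (fromCpl y))
    (show z ⤳ pullback.fst f (fromCpl y) x' from hx'.symm ▸ hzx)
  exact hx' ▸ hspec z' x' hz' hz

/-- A closed subset lying in the component over the generisations of `y` is proper near `y`. -/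
theorem CompData.exists_isProper_closed (D : CompData f y Z) {S : Set X} {T : Scheme.{u}} (j : T ⟶ X)
    [IsClosedImmersion j] (hrj : Set.range j = S) (hS : ∀ x, f x ⤳ y → x ∈ S → x ∈ Z) :
    ∃ U : Y.Opens, y ∈ U ∧ IsProper ((j ≫ f) ∣_ U) := by
  obtain ⟨V, hVp, hZV, -⟩ := D.completion
  let c := fromCpl y
  let f' := pullback.snd f c
  let p' := pullback.fst f c
  have hc : ∀ q, c q ⤳ y := fun q => ((IsLocalRing.specializes_closedPoint q).map c.continuous).trans
    (specializes_of_eq (fromCpl_closedPoint y))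
  have : IsProper (pullback.snd (j ≫ f) c) := by
    have hl : IsPullback (pullback.lift (pullback.fst (j ≫ f) c ≫ j) (pullback.snd (j ≫ f) c)
        (by rw [Category.assoc, pullback.condition]) : pullback (j ≫ f) c ⟶ pullback f c)
        (pullback.fst (j ≫ f) c) p' j := by
      refine IsPullback.of_right (h₁₂ := f') (h₂₂ := f) ?_ (pullback.lift_fst _ _ _) (IsPullback.of_hasPullback f c).flip
      simpa [f'] using (IsPullback.of_hasPullback (j ≫ f) c).flip
    let L : pullback (j ≫ f) c ⟶ pullback f c := pullback.lift (pullback.fst (j ≫ f) c ≫ j)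
      (pullback.snd (j ≫ f) c) (by rw [Category.assoc, pullback.condition])
    have : IsClosedImmersion L := MorphismProperty.of_isPullback (P := @IsClosedImmersion) hl.flip inferInstance
    have hLV : Set.range L ⊆ Set.range V.ι := by
      rw [Scheme.Opens.range_ι]
      rintro _ ⟨w, rfl⟩
      refine hZV (hS _ ?_ ?_)
      · rw [← Scheme.Hom.comp_apply, pullback.condition, Scheme.Hom.comp_apply]
        exact hc _
      · show p' (L w) ∈ S
        rw [← Scheme.Hom.comp_apply, pullback.lift_fst, ← hrj]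
        exact ⟨_, (Scheme.Hom.comp_apply _ _ _).symm⟩
    let l := IsOpenImmersion.lift V.ι L hLV
    have : IsClosedImmersion (l ≫ V.ι) := by rw [IsOpenImmersion.lift_fac]; infer_instance
    have : IsClosedImmersion l := IsClosedImmersion.of_comp l V.ι
    have : IsProper (L ≫ f') := by
      rw [← IsOpenImmersion.lift_fac V.ι L hLV, Category.assoc]
      infer_instance
    rwa [pullback.lift_snd] at this
  exact exists_isProper_nhd_of_completion y (j ≫ f)

theorem CompData.exists_proper_nhd_of_constructible (D : CompData f y Z) (hZ : Topology.IsLocallyConstructible Z) :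
    ∃ U : Y.Opens, y ∈ U ∧ ∃ hC : IsClosed ((f ⁻¹ᵁ U).ι.base ⁻¹' Z),
      IsProper ((Scheme.IdealSheafData.vanishingIdeal
        (⟨(f ⁻¹ᵁ U).ι.base ⁻¹' Z, hC⟩ : TopologicalSpace.Closeds ↥(f ⁻¹ᵁ U))).subschemeι ≫ (f ∣_ U)) := by
  have hZcl : ∀ x, f x ⤳ y → x ∈ closure Z → x ∈ Z := by
    intro x hxy hx
    obtain ⟨z, hz, hzx⟩ := ProConsLib.exists_specializes_of_mem_closure
      (isProConstructible_of_isLocallyConstructible hZ) hx
    exact D.mem_of_specializes hxy hz hzx
  -- closedness near `y`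
  let Dif : Set X := closure Z ∩ Zᶜ
  have hD : ProCons.IsProConstructible Dif := isProConstructible_of_isLocallyConstructible
    (((show Topology.IsLocallyConstructible (closure Z) by
      have := LocallyOfFiniteType.isLocallyNoetherian f
      simpa using FibDim.isLocallyConstructible_inter isOpen_univ (isClosed_closure (s := Z)))).inter
      fun x => let ⟨N, hN, hNo, hc⟩ := hZ x; ⟨N, hN, hNo, hc.compl⟩)
  have hyD : y ∉ closure (f '' Dif) := fun hy => by
    obtain ⟨x, hx, hxy⟩ := ProConsLib.exists_specializes_of_mem_closure_image_scheme hD f hy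
    exact hx.2 (hZcl x hxy hx.1)
  let U₀ : Y.Opens := ⟨(closure (f '' Dif))ᶜ, isClosed_closure.isOpen_compl⟩
  -- properness near `y`
  let Zc : Closeds X := ⟨closure Z, isClosed_closure⟩
  let j := (Scheme.IdealSheafData.vanishingIdeal Zc).subschemeι
  have hrj : Set.range j = closure Z := H23.RedSub.range_vanishingIdeal Zc
  obtain ⟨U₁, hyU₁, hU₁⟩ := D.exists_isProper_closed j hrj hZcl
  let U := U₀ ⊓ U₁
  have heq : (f ⁻¹ᵁ U).ι.base ⁻¹' Z = (f ⁻¹ᵁ U).ι.base ⁻¹' closure Z := by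
    ext v
    refine ⟨fun h => subset_closure h, fun h => ?_⟩
    by_contra hn
    exact v.2.1 (subset_closure ⟨_, ⟨h, hn⟩, rfl⟩)
  have hC : IsClosed ((f ⁻¹ᵁ U).ι.base ⁻¹' Z) := heq ▸ isClosed_closure.preimage (f ⁻¹ᵁ U).ι.continuous
  refine ⟨U, ⟨hyD, hyU₁⟩, hC, ?_⟩
  have : IsReduced (Scheme.IdealSheafData.vanishingIdeal Zc).subscheme := H23.RedSub.isReduced_vanishingIdeal Zc
  have hU : IsProper ((j ≫ f) ∣_ U) := (FComplLib.restrict_le_iff (j ≫ f) @IsProper (inf_le_right : U ≤ U₁)).1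
    (IsZariskiLocalAtTarget.restrict (P := @IsProper) hU₁ _)
  have h := (isProper_vanishingIdeal_iff f U j hrj (heq ▸ hC)).2 hU
  have key : ∀ A B : Closeds ↥(f ⁻¹ᵁ U), A = B →
      IsProper ((Scheme.IdealSheafData.vanishingIdeal A).subschemeι ≫ (f ∣_ U)) →
      IsProper ((Scheme.IdealSheafData.vanishingIdeal B).subschemeι ≫ (f ∣_ U)) := by
    rintro A _ rfl hA; exact hA
  exact key _ _ (SetLike.coe_injective heq.symm) h


theorem proper_at_component (y : Y) (f : X ⟶ Y) [IsSeparated f] [LocallyOfFiniteType f] [QuasiCompact f]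
    (Z : Set X)
    (hZ : Topology.IsLocallyConstructible Z)
    (h1 : ∀ y' : Y, y' ⤳ y → (∃ x ∈ Z, f.base x = y' ∧ Z ∩ f.base ⁻¹' {y'} = connectedComponentIn (f.base ⁻¹' {y'}) x) ∧
      ∀ (K : Type u) [Field K] [Algebra (IsLocalRing.ResidueField (Y.presheaf.stalk y')) K],
        _root_.IsPreconnected ((FBase.bcπ (f.fiberToSpecResidueField y') K ≫ f.fiberι y').base ⁻¹' Z))
    (hop : IsOpen ((f.fiberι y).base ⁻¹' Z))
    (h2 : IsProper (Scheme.Opens.ι (⟨(f.fiberι y).base ⁻¹' Z, hop⟩ : (f.fiber y).Opens) ≫ f.fiberToSpecResidueField y))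
    (h3 : ∀ (Y' : Scheme.{u}) (h : Y' ⟶ Y) (E : Set Y'), E ⊆ h.base ⁻¹' (f.base '' Z) →
      (∃ W : Set ↥(pullback f h), IsOpen W ∧
        W ∩ (pullback.fst f h).base ⁻¹' Z = (pullback.snd f h).base ⁻¹' E ∩ (pullback.fst f h).base ⁻¹' Z) →
      ∃ V : Set Y', IsOpen V ∧ V ∩ h.base ⁻¹' (f.base '' Z) = E) :
    ∃ U : Y.Opens, y ∈ U ∧ ∃ hC : IsClosed ((f ⁻¹ᵁ U).ι.base ⁻¹' Z),
      IsProper ((Scheme.IdealSheafData.vanishingIdeal
        (⟨(f ⁻¹ᵁ U).ι.base ⁻¹' Z, hC⟩ : TopologicalSpace.Closeds ↥(f ⁻¹ᵁ U))).subschemeι ≫ (f ∣_ U)) := by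
  refine CompData.exists_proper_nhd_of_constructible ⟨fun y' hy' => ?_, fun hP q hq =>
    isConnected_pullback_component hP Z q (let ⟨⟨x, hx, hxy, _⟩, _⟩ := h1 _ hq; ⟨x, hx, hxy⟩)
      (fun K _ _ => (h1 _ hq).2 K), ?_, hop, h2⟩ hZ
  · obtain ⟨x, -, hx, hxZ⟩ := (h1 y' hy').1
    exact exists_open_closed_component f Z hx hxZ
  intro P Y' p g h hP hh E W hW hWE
  have huniv : h.base ⁻¹' (f.base '' Z) = Set.univ := Set.eq_univ_of_forall fun q => by
    obtain ⟨⟨x, hx, hxy, -⟩, -⟩ := h1 (h q) (hh q)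
    exact ⟨x, hx, hxy⟩
  obtain ⟨V, hV, hVE⟩ := h3 Y' h E (huniv ▸ Set.subset_univ E)
    ⟨hP.isoPullback.inv ⁻¹' W, hW.preimage hP.isoPullback.inv.continuous, by
      ext v
      have hv := Set.ext_iff.1 hWE (hP.isoPullback.inv v)
      simp only [Set.mem_inter_iff, Set.mem_preimage, ← Scheme.Hom.comp_apply,
        hP.isoPullback_inv_fst, hP.isoPullback_inv_snd] at hv ⊢
      exact hv⟩
  rw [huniv, Set.inter_univ] at hVE
  exact hVE ▸ hV

end Groth.Agent.ProperNhd
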