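import Groth.Agent.ProperNhd.ChowImm
import Groth.Agent.ConsPropLib.FibreProper
import Groth.Agent.Proj16.DVRCrit

/-!
# Properness near a point of the base, tested on discrete valuation rings (EGA IV 15.7.5)
-/

universe u

open CategoryTheory CategoryTheory.Limits AlgebraicGeometry TopologicalSpace

set_option backward.isDefEq.respectTransparency false
set_option backward.isDefEq.respectTransparency.types false

namespace Groth.Agent.ProperNhd

variable {X Y : Scheme.{u}}

/-- The generic point of a discrete valuation ring, as a map. -/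
noncomputable abbrev genMap (A : Type u) [CommRing A] [IsDomain A] :
    Spec (CommRingCat.of (FractionRing A)) ⟶ Spec (CommRingCat.of A) :=
  Spec.map (CommRingCat.ofHom (algebraMap A (FractionRing A)))

/-- Discrete valuation rings centred at `y` whose generic point is the generic point of a component
of `X`, with the same residue field, lift to `X`. -/
def HasLiftsAt (f : X ⟶ Y) (y : Y) : Prop :=
  ∀ (A : Type u) [CommRing A] [IsDomain A] [IsDiscreteValuationRing A]
    (x : Spec (CommRingCat.of (FractionRing A)) ⟶ X) (g : Spec (CommRingCat.of A) ⟶ Y),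
    g (IsLocalRing.closedPoint A) = y → x ≫ f = genMap A ≫ g →
    (∀ z : X, z ⤳ x (IsLocalRing.closedPoint (FractionRing A)) →
      z = x (IsLocalRing.closedPoint (FractionRing A))) →
    Function.Surjective (x.stalkMap (IsLocalRing.closedPoint (FractionRing A))) →
    ∃ l : Spec (CommRingCat.of A) ⟶ X, l ≫ f = g ∧ genMap A ≫ l = x

theorem surjective_stalkMap_comp {Z : Scheme.{u}} (a : X ⟶ Y) (b : Y ⟶ Z) (x : X)
    (ha : Function.Surjective (a.stalkMap x)) (hb : Function.Surjective (b.stalkMap (a x))) :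
    Function.Surjective ((a ≫ b).stalkMap x) := by
  rw [Scheme.Hom.stalkMap_comp]
  simpa using ha.comp hb

section Affine

variable [IsAffine Y] [IsNoetherian Y] (f : X ⟶ Y) [IsSeparated f] [LocallyOfFiniteType f] [QuasiCompact f]

theorem exists_isProper_nhd_of_isAffine (y : Y) (H : HasLiftsAt f y) :
    ∃ U : Y.Opens, y ∈ U ∧ IsProper (f ∣_ U) := by
  have : IsLocallyNoetherian X := LocallyOfFiniteType.isLocallyNoetherian f
  have : CompactSpace X := QuasiCompact.compactSpace_of_compactSpace f
  have : IsNoetherian X := {}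
  let ι := {Z : Set X // Z ∈ irreducibleComponents X}
  have : Finite ι := (TopologicalSpace.NoetherianSpace.finite_irreducibleComponents).to_subtype
  choose T j hj hT hr hgen using fun k : ι => ConsPropLib.exists_integral_closure k.2.1.genericPoint
  let F : ∀ k, T k ⟶ Spec (CommRingCat.of Γ(Y, ⊤)) := fun k => j k ≫ f ≫ Y.isoSpec.hom
  have : ∀ k, IsSeparated (F k) := fun k => inferInstance
  let D := fun k => (PnCoh.Chow.exists_data (F k)).some
  have : ∀ k, IsDominant (D k).π := fun k => by
    have : IsDominant ((D k).γ ≫ (D k).π) := by rw [(D k).γ_π]; exact (D k).dominant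
    exact IsDominant.of_comp (D k).γ (D k).π
  let q : ∀ k, CohB1.ProjSpace (D k).N Γ(Y, ⊤) ⟶ Y := fun k =>
    CohB1.ProjSpace.toSpec (D k).N Γ(Y, ⊤) ≫ Y.isoSpec.inv
  have : ∀ k, IsProper (q k) := fun k => by
    have := PnCoh.Chow.isProper_toSpec (D k).N Γ(Y, ⊤)
    infer_instance
  let ρ : ∀ k, (D k).X' ⟶ X := fun k => (D k).π ≫ j k
  have hρ : ∀ k, ρ k ≫ f = (D k).p ≫ q k := fun k => by
    rw [← Category.assoc (D k).p, ← (D k).π_f]
    simp [F, ρ]
  have : ∀ k, IsProper (ρ k) := fun k => inferInstance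
  have himm : ∀ k, IsImmersion (D k).p := fun k => isImmersion_p (D k)
  let Bad : ι → Set Y := fun k => q k '' (closure (Set.range (D k).p) \ Set.range (D k).p)
  have hBad : ∀ k, IsClosed (Bad k) := fun k => by
    refine (q k).isClosedMap _ ?_
    have h := ((D k).p.isLocallyClosed_range).isOpen_coborder
    rw [show closure (Set.range (D k).p) \ Set.range (D k).p = (coborder (Set.range (D k).p))ᶜ from by
      rw [coborder, compl_compl]]
    exact h.isClosed_compl
  have hy : ∀ k, y ∉ Bad k := by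
    rintro k ⟨b, ⟨hb, hbr⟩, hqb⟩
    let w := genericPoint (D k).X'
    have hsp : (D k).p w ⤳ b := by
      refine specializes_iff_mem_closure.2 (closure_minimal ?_ isClosed_closure hb)
      rintro _ ⟨v, rfl⟩
      exact ((genericPoint_specializes v).map (D k).p.continuous).mem_closure
    have hne : b ≠ (D k).p w := fun h => hbr ⟨w, h.symm⟩
    have : IsLocallyNoetherian (CohB1.ProjSpace (D k).N Γ(Y, ⊤)) :=
      LocallyOfFiniteType.isLocallyNoetherian (q k)
    have : LocallyOfFiniteType (D k).p := inferInstance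
    obtain ⟨A, h, hA, h1, h2⟩ := Proj16.exists_dvr_path (p := (D k).p) hsp hne
    obtain ⟨e, he, he'⟩ := Proj16.exists_fractionRing_spec A
    let φ : Spec (CommRingCat.of (FractionRing A)) ⟶ (D k).X' := e ≫ (D k).X'.fromSpecResidueField w
    let c : ↥(Spec (CommRingCat.of (FractionRing A))) := IsLocalRing.closedPoint (FractionRing A)
    have hφc : φ c = w := by
      rw [Scheme.Hom.comp_apply]
      exact Scheme.fromSpecResidueField_apply _ _
    have hφp : φ ≫ (D k).p = genMap A ≫ h := by
      rw [Category.assoc, ← h2, ← Category.assoc, he']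
    have hgenπ : (D k).π w = genericPoint (T k) := by
      refine ((genericPoint_spec (T k)).eq ?_).symm
      have := (genericPoint_spec (D k).X').image (D k).π.continuous
      rw [Set.image_univ, (D k).π.denseRange.closure_eq] at this
      exact this
    have hxc : (φ ≫ ρ k) c = k.2.1.genericPoint := by
      rw [Scheme.Hom.comp_apply, hφc]
      show j k ((D k).π w) = _
      rw [hgenπ, hgen]
    have hmax : ∀ z : X, z ⤳ (φ ≫ ρ k) c → z = (φ ≫ ρ k) c := fun z hz => by
      rw [hxc] at hz ⊢
      have hgp := k.2.1.isGenericPoint_genericPoint_closure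
      rw [(isClosed_of_mem_irreducibleComponents _ k.2).closure_eq] at hgp
      have hle : k.1 ⊆ closure {z} := by
        rw [← hgp.def]
        exact closure_minimal (Set.singleton_subset_iff.2 hz.mem_closure) isClosed_closure
      have := k.2.2 isIrreducible_singleton.closure hle
      exact (hz.antisymm (hgp.specializes (this (subset_closure rfl)))).eq
    have hsurj : Function.Surjective ((φ ≫ ρ k).stalkMap c) := by
      refine surjective_stalkMap_comp φ (ρ k) c (φ.stalkMap_surjective c) ?_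
      refine surjective_stalkMap_comp (D k).π (j k) (φ c) ?_ ((j k).stalkMap_surjective _)
      have hmem : φ c ∈ (D k).π ⁻¹ᵁ (D k).j.opensRange := by
        rw [hφc]
        show (D k).π w ∈ (D k).j.opensRange
        rw [hgenπ]
        exact ((genericPoint_spec (T k)).mem_open_set_iff (D k).j.opensRange.2).2
          (by simpa using ⟨_, (⟨genericPoint (D k).W₀, rfl⟩ :
            (D k).j (genericPoint (D k).W₀) ∈ Set.range (D k).j)⟩)
      have := (D k).isIso_π
      have h' : IsIso (((D k).π ∣_ (D k).j.opensRange).stalkMap ⟨φ c, hmem⟩) := inferInstance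
      have : IsIso ((D k).π.stalkMap (φ c)) :=
        ((MorphismProperty.isomorphisms _).arrow_mk_iso_iff
          (morphismRestrictStalkMap (D k).π (D k).j.opensRange ⟨φ c, hmem⟩)).1 h'
      exact (ConcreteCategory.bijective_of_isIso ((D k).π.stalkMap (φ c))).2
    obtain ⟨l, hl1, hl2⟩ := H A (φ ≫ ρ k) (h ≫ q k) (by rw [Scheme.Hom.comp_apply, h1, hqb])
      (by rw [Category.assoc, hρ, reassoc_of% hφp]) hmax hsurj
    obtain ⟨l', hl'1, hl'2⟩ := Proj16.dvrExistence_of_universallyClosed (ρ k) A φ l hl2.symm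
    have hl'p : l' ≫ (D k).p = h := by
      refine Proj16.dvrUniqueness_of_isSeparated (q k) A _ _ ?_ ?_
      · rw [Category.assoc, ← hρ, reassoc_of% hl'1, hl1]
      · rw [reassoc_of% hl'2, hφp]
    refine hbr ⟨l' (IsLocalRing.closedPoint A), ?_⟩
    rw [← Scheme.Hom.comp_apply, hl'p, h1]
  let U : Y.Opens := ⟨(⋃ k, Bad k)ᶜ, (isClosed_iUnion_of_finite hBad).isOpen_compl⟩
  refine ⟨U, fun h => (Set.mem_iUnion.1 h).elim hy, ?_⟩
  have : IsSeparated (f ∣_ U) := IsZariskiLocalAtTarget.restrict (P := @IsSeparated) inferInstance U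
  have : LocallyOfFiniteType (f ∣_ U) :=
    IsZariskiLocalAtTarget.restrict (P := @LocallyOfFiniteType) inferInstance U
  have : ∀ k, UniversallyClosed ((ρ k ∣_ (f ⁻¹ᵁ U)) ≫ (f ∣_ U)) := fun k => by
    have hclp : IsClosedImmersion ((D k).p ∣_ (q k ⁻¹ᵁ U)) := by
      have : IsImmersion ((D k).p ∣_ (q k ⁻¹ᵁ U)) :=
        MorphismProperty.of_isPullback (isPullback_morphismRestrict (D k).p _).flip (himm k)
      refine IsClosedImmersion.of_isPreimmersion _ ?_
      have : Set.range ((D k).p ∣_ (q k ⁻¹ᵁ U)) =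
          (q k ⁻¹ᵁ U).ι ⁻¹' closure (Set.range (D k).p) := by
        refine Set.Subset.antisymm ?_ ?_
        · rintro _ ⟨v, rfl⟩
          exact subset_closure ⟨v.1, (morphismRestrict_base_coe _ _ _).symm⟩
        · intro v hv
          obtain ⟨z, hz⟩ : v.1 ∈ Set.range (D k).p := by
            by_contra hn
            exact v.2 (Set.mem_iUnion.2 ⟨k, v.1, ⟨hv, hn⟩, rfl⟩)
          refine ⟨⟨z, ?_⟩, Subtype.ext ((morphismRestrict_base_coe _ _ _).trans hz)⟩
          show (D k).p z ∈ q k ⁻¹ᵁ U
          exact hz ▸ v.2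
      rw [this]
      exact isClosed_closure.preimage (q k ⁻¹ᵁ U).ι.continuous
    have : IsProper (q k ∣_ U) := IsZariskiLocalAtTarget.restrict (P := @IsProper) inferInstance U
    have h1 : UniversallyClosed (((D k).p ∣_ (q k ⁻¹ᵁ U)) ≫ (q k ∣_ U)) := inferInstance
    rw [← morphismRestrict_comp] at h1 ⊢
    have heq : ∀ {a b : (D k).X' ⟶ Y}, a = b → UniversallyClosed (a ∣_ U) → UniversallyClosed (b ∣_ U) := by
      intro a b hab hu; subst hab; exact hu
    exact heq (hρ k).symm h1
  have : UniversallyClosed (f ∣_ U) := by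
    refine ConsPropLib.universallyClosed_of_jointly_surjective (f ∣_ U) (fun k => ρ k ∣_ (f ⁻¹ᵁ U)) fun x => ?_
    obtain ⟨k, hk⟩ : ∃ k : ι, x.1 ∈ k.1 :=
      ⟨⟨_, irreducibleComponent_mem_irreducibleComponents x.1⟩, mem_irreducibleComponent⟩
    obtain ⟨t, ht⟩ : x.1 ∈ Set.range (j k) := by
      rw [hr, k.2.1.isGenericPoint_genericPoint_closure.def,
        (isClosed_of_mem_irreducibleComponents _ k.2).closure_eq]
      exact hk
    have : Surjective (D k).π := inferInstance
    obtain ⟨z, hz⟩ := (D k).π.surjective t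
    have hzx : ρ k z = x.1 := by rw [Scheme.Hom.comp_apply, hz, ht]
    refine ⟨k, ⟨z, ?_⟩, Subtype.ext ((morphismRestrict_base_coe _ _ _).trans hzx)⟩
    show ρ k z ∈ f ⁻¹ᵁ U
    exact hzx ▸ x.2
  exact {}

end Affine

set_option maxHeartbeats 800000 in
theorem exists_isProper_nhd [IsLocallyNoetherian Y] (f : X ⟶ Y) [IsSeparated f] [LocallyOfFiniteType f]
    [QuasiCompact f] (y : Y) (H : HasLiftsAt f y) : ∃ U : Y.Opens, y ∈ U ∧ IsProper (f ∣_ U) := by
  obtain ⟨_, ⟨(W : Y.Opens), hW, rfl⟩, hyW, -⟩ :=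
    Y.isBasis_affineOpens.exists_subset_of_mem_open (Set.mem_univ y) isOpen_univ
  have : IsAffine W := hW
  have : CompactSpace W := hW.isCompact |> isCompact_iff_compactSpace.1
  have : IsNoetherian W := {}
  have : IsSeparated (f ∣_ W) := IsZariskiLocalAtTarget.restrict (P := @IsSeparated) inferInstance W
  have : QuasiCompact (f ∣_ W) := IsZariskiLocalAtTarget.restrict (P := @QuasiCompact) inferInstance W
  have : LocallyOfFiniteType (f ∣_ W) :=
    IsZariskiLocalAtTarget.restrict (P := @LocallyOfFiniteType) inferInstance W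
  have H' : HasLiftsAt (f ∣_ W) ⟨y, hyW⟩ := fun A _ _ _ x g hg hx hmax hs => by
    obtain ⟨l, hl1, hl2⟩ := H A (x ≫ (f ⁻¹ᵁ W).ι) (g ≫ W.ι) (by rw [Scheme.Hom.comp_apply, hg]; rfl)
      (by rw [Category.assoc, ← morphismRestrict_ι, reassoc_of% hx])
      (fun z hz => by
        rw [Scheme.Hom.comp_apply] at hz ⊢
        have hzW : z ∈ f ⁻¹ᵁ W := hz.mem_open (f ⁻¹ᵁ W).2 (x _).2
        exact congrArg Subtype.val (hmax ⟨z, hzW⟩
          ((f ⁻¹ᵁ W).ι.isOpenEmbedding.isInducing.specializes_iff.1 hz)))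
      (surjective_stalkMap_comp x (f ⁻¹ᵁ W).ι _ hs
        (ConcreteCategory.bijective_of_isIso ((f ⁻¹ᵁ W).ι.stalkMap _)).2)
    refine ⟨(isPullback_morphismRestrict f W).lift g l hl1.symm, IsPullback.lift_fst _ _ _ _, ?_⟩
    rw [← cancel_mono (f ⁻¹ᵁ W).ι, Category.assoc, IsPullback.lift_snd, hl2]
  obtain ⟨U, hyU, hU⟩ := exists_isProper_nhd_of_isAffine (f ∣_ W) ⟨y, hyW⟩ H'
  exact ⟨W.ι ''ᵁ U, ⟨⟨y, hyW⟩, hyU, rfl⟩,
    (MorphismProperty.arrow_mk_iso_iff @IsProper (morphismRestrictRestrict f W U)).1 hU⟩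

end Groth.Agent.ProperNhd
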