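import Groth.Agent.ProperNhd.Criterion

/-!
# Maps from spectra of local rings, read on stalks
-/

universe u

open CategoryTheory CategoryTheory.Limits AlgebraicGeometry TopologicalSpace IsLocalRing

set_option backward.isDefEq.respectTransparency false
set_option backward.isDefEq.respectTransparency.types false

namespace Groth.Agent.ProperNhd

variable {X Y : Scheme.{u}}

/-- Two maps out of local rings compatible along a ring map give compatible maps of stalks. -/
theorem stalkClosedPointTo_compat {R S : CommRingCat.{u}} [IsLocalRing R] [IsLocalRing S] (φ : R ⟶ S)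
    (l : Spec R ⟶ X) (x : Spec S ⟶ X) (h : Spec.map φ ≫ l = x)
    (hsp : x (closedPoint S) ⤳ l (closedPoint R)) :
    Scheme.stalkClosedPointTo l ≫ φ = X.presheaf.stalkSpecializes hsp ≫ Scheme.stalkClosedPointTo x := by
  apply Spec.map_injective
  rw [← cancel_mono (X.fromSpecStalk _), Spec.map_comp, Spec.map_comp, Category.assoc, Category.assoc,
    Scheme.Spec_stalkClosedPointTo_fromSpecStalk, Scheme.SpecMap_stalkSpecializes_fromSpecStalk,
    Scheme.Spec_stalkClosedPointTo_fromSpecStalk, h]

theorem specializes_closedPoint {R S : CommRingCat.{u}} [IsLocalRing R] [IsLocalRing S] (φ : R ⟶ S)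
    (l : Spec R ⟶ X) : (Spec.map φ ≫ l) (closedPoint S) ⤳ l (closedPoint R) := by
  rw [Scheme.Hom.comp_apply]
  exact (IsLocalRing.specializes_closedPoint _).map l.continuous

/-- Stalk maps of composites. -/
theorem stalkClosedPointTo_comp' {R : CommRingCat.{u}} [IsLocalRing R] (a : Spec R ⟶ X) (f : X ⟶ Y) {y : Y}
    (h : f (a (closedPoint R)) = y) :
    Y.presheaf.stalkSpecializes (specializes_of_eq h) ≫ f.stalkMap (a (closedPoint R)) ≫
      Scheme.stalkClosedPointTo a =
      Y.presheaf.stalkSpecializes (specializes_of_eq h) ≫ Scheme.stalkClosedPointTo (a ≫ f) := by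
  rw [Scheme.stalkClosedPointTo_comp]

/-- A map sending the closed point to `y` is given by a local homomorphism from the stalk. -/
theorem exists_localHom {R : CommRingCat.{u}} [IsLocalRing R] (g : Spec R ⟶ Y) {y : Y} (h : g (closedPoint R) = y) :
    ∃ ψ : Y.presheaf.stalk y ⟶ R, IsLocalHom ψ.hom ∧ Spec.map ψ ≫ Y.fromSpecStalk y = g := by
  subst h
  exact ⟨_, inferInstance, Scheme.Spec_stalkClosedPointTo_fromSpecStalk g⟩

theorem specMap_fromSpecStalk_closedPoint {R : CommRingCat.{u}} [IsLocalRing R] {y : Y} (ψ : Y.presheaf.stalk y ⟶ R)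
    [IsLocalHom ψ.hom] : (Spec.map ψ ≫ Y.fromSpecStalk y) (closedPoint R) = y := by
  rw [Scheme.Hom.comp_apply]
  have : Spec.map ψ (closedPoint R) = closedPoint _ := IsLocalRing.comap_closedPoint ψ.hom
  rw [this, Scheme.fromSpecStalk_closedPoint]

/-- The image of a discrete valuation ring in its fraction field. -/
def rangeValuationSubring (A : Type u) [CommRing A] [IsDomain A] [IsDiscreteValuationRing A] :
    ValuationSubring (FractionRing A) where
  toSubring := (algebraMap A (FractionRing A)).range
  mem_or_inv_mem' x := ValuationRing.isInteger_or_isInteger A x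

theorem maximal_of_isDominant_generic [IrreducibleSpace X] {z : X} (h : ∀ w : X, w ⤳ z → w = z) :
    z = genericPoint X :=
  (h _ ((genericPoint_spec X).specializes (Set.mem_univ z))).symm

end Groth.Agent.ProperNhd
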