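import Groth.Agent.ProperNhd.Criterion
import Groth.Agent.ProperNhd.PointMaps
import Groth.Agent.EtFound.Descent
import Groth.Agent.FlatLoc6.Cpl
import Groth.Agent.Adic7.Lift
import Groth.Agent.H23.RatExtend

/-!
# Properness near a point from properness over the completion (EGA IV 15.7)
-/

universe u

open CategoryTheory CategoryTheory.Limits AlgebraicGeometry TopologicalSpace IsLocalRing

set_option backward.isDefEq.respectTransparency false
set_option backward.isDefEq.respectTransparency.types false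

namespace Groth.Agent.ProperNhd

variable {X Y : Scheme.{u}}

theorem exists_isProper_nhd_of_stalk [IsLocallyNoetherian Y] (f : X ⟶ Y) [IsSeparated f] [LocallyOfFiniteType f]
    [QuasiCompact f] (y : Y) [IsProper (pullback.snd f (Y.fromSpecStalk y))] :
    ∃ U : Y.Opens, y ∈ U ∧ IsProper (f ∣_ U) := by
  refine exists_isProper_nhd f y fun A _ _ _ x g hg hx _ _ => ?_
  obtain ⟨ψ, hψ, rfl⟩ := exists_localHom g hg
  have w : x ≫ f = (genMap A ≫ Spec.map ψ) ≫ Y.fromSpecStalk y := by rw [hx, Category.assoc]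
  obtain ⟨l, hl1, hl2⟩ := Proj16.dvrExistence_of_universallyClosed (pullback.snd f (Y.fromSpecStalk y)) A
    (pullback.lift x (genMap A ≫ Spec.map ψ) w) (Spec.map ψ) (pullback.lift_snd _ _ _)
  exact ⟨l ≫ pullback.fst _ _, by rw [Category.assoc, pullback.condition, reassoc_of% hl1],
    by rw [reassoc_of% hl2, pullback.lift_fst]⟩

variable [IsLocallyNoetherian Y] (y : Y)

/-- The spectrum of the completion of the local ring at `y`, mapped to `Y`. -/
noncomputable abbrev fromCpl : Spec (CommRingCat.of (EGA4.Cpl (Y.presheaf.stalk y))) ⟶ Y :=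
  Spec.map (CommRingCat.ofHom (algebraMap (Y.presheaf.stalk y) (EGA4.Cpl (Y.presheaf.stalk y)))) ≫
    Y.fromSpecStalk y

instance : IsLocalRing (EGA4.Cpl (Y.presheaf.stalk y)) := FlatLoc6.isLocalRing_cpl _

instance : IsNoetherianRing (EGA4.Cpl (Y.presheaf.stalk y)) := FlatLoc6.isNoetherianRing_cpl _

instance : IsAdicComplete (maximalIdeal (EGA4.Cpl (Y.presheaf.stalk y))) (EGA4.Cpl (Y.presheaf.stalk y)) := by
  have fg : (maximalIdeal (Y.presheaf.stalk y)).FG := IsNoetherian.noetherian _
  rw [AdicCompletion.maximalIdeal_eq_map_of_fg fg]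
  exact Adic7.isAdicComplete_completion _ fg

theorem surjective_flat_cpl :
    Surjective (Spec.map (CommRingCat.ofHom (algebraMap (Y.presheaf.stalk y) (EGA4.Cpl (Y.presheaf.stalk y))))) ∧
      Flat (Spec.map (CommRingCat.ofHom (algebraMap (Y.presheaf.stalk y) (EGA4.Cpl (Y.presheaf.stalk y))))) := by
  have := FlatLoc6.faithfullyFlat_cpl (Y.presheaf.stalk y)
  exact ⟨⟨PrimeSpectrum.comap_surjective_of_faithfullyFlat⟩,
    Flat.SpecMap_iff.2 (RingHom.flat_algebraMap_iff.2 inferInstance)⟩

instance : Flat (fromCpl y) := by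
  have := (surjective_flat_cpl y).2
  have := H23.RatExtend.flat_fromSpecStalk Y y
  infer_instance

theorem fromCpl_closedPoint : fromCpl y (closedPoint (EGA4.Cpl (Y.presheaf.stalk y))) = y := by
  have fg : (maximalIdeal (Y.presheaf.stalk y)).FG := IsNoetherian.noetherian _
  have : IsLocalHom (algebraMap (Y.presheaf.stalk y) (EGA4.Cpl (Y.presheaf.stalk y))) :=
    ((local_hom_TFAE (algebraMap (Y.presheaf.stalk y) (EGA4.Cpl (Y.presheaf.stalk y)))).out 0 2).mpr
      (AdicCompletion.maximalIdeal_eq_map_of_fg fg).ge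
  exact specMap_fromSpecStalk_closedPoint _

theorem eq_closedPoint_of_fromCpl (p : Spec (CommRingCat.of (EGA4.Cpl (Y.presheaf.stalk y)))) (h : fromCpl y p = y) :
    p = closedPoint (EGA4.Cpl (Y.presheaf.stalk y)) := by
  have h' := (Y.fromSpecStalk y).isEmbedding.injective
    ((Scheme.Hom.comp_apply _ _ p).symm.trans (h.trans (Scheme.fromSpecStalk_closedPoint (X := Y) (x := y)).symm))
  have h'' : p.asIdeal.comap (algebraMap (Y.presheaf.stalk y) (EGA4.Cpl (Y.presheaf.stalk y))) =
      maximalIdeal (Y.presheaf.stalk y) := congrArg PrimeSpectrum.asIdeal h'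
  refine PrimeSpectrum.ext ((le_maximalIdeal p.isPrime.ne_top).antisymm ?_)
  change maximalIdeal _ ≤ p.asIdeal
  rw [AdicCompletion.maximalIdeal_eq_map_of_fg (IsNoetherian.noetherian (maximalIdeal (Y.presheaf.stalk y))),
    Ideal.map_le_iff_le_comap, h'']

theorem maximal_fromCpl {p : Spec (CommRingCat.of (EGA4.Cpl (Y.presheaf.stalk y)))} (hp : ∀ q, q ⤳ p → q = p)
    {η : Y} (h : η ⤳ fromCpl y p) : η = fromCpl y p := by
  obtain ⟨q, hq, rfl⟩ := Flat.generalizingMap (fromCpl y) h
  rw [hp q hq]

theorem exists_isProper_nhd_of_completion (f : X ⟶ Y) [IsSeparated f] [LocallyOfFiniteType f] [QuasiCompact f]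
    [IsProper (pullback.snd f (fromCpl y))] : ∃ U : Y.Opens, y ∈ U ∧ IsProper (f ∣_ U) := by
  have := (surjective_flat_cpl y).1
  have := (surjective_flat_cpl y).2
  let c := Spec.map (CommRingCat.ofHom (algebraMap (Y.presheaf.stalk y) (EGA4.Cpl (Y.presheaf.stalk y))))
  have : IsProper (pullback.snd (pullback.snd f (Y.fromSpecStalk y)) c) := by
    have h : IsPullback (pullback.fst (pullback.snd f (Y.fromSpecStalk y)) c ≫ pullback.fst f (Y.fromSpecStalk y))
        (pullback.snd (pullback.snd f (Y.fromSpecStalk y)) c) f (fromCpl y) :=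
      (IsPullback.of_hasPullback _ _).paste_horiz (IsPullback.of_hasPullback _ _)
    rw [← h.isoPullback_hom_snd]
    infer_instance
  have := EtFound.fpqc_isProper.{u}
  have : IsProper (pullback.snd f (Y.fromSpecStalk y)) :=
    MorphismProperty.of_isPullback_of_descendsAlong (P := @IsProper)
      (Q := @Surjective ⊓ @Flat ⊓ @QuasiCompact) (IsPullback.of_hasPullback (pullback.snd f (Y.fromSpecStalk y)) c).flip
      ⟨⟨inferInstance, inferInstance⟩, inferInstance⟩ inferInstance
  exact exists_isProper_nhd_of_stalk f y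

end Groth.Agent.ProperNhd
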