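import Groth.Agent.ProperNhd.SectionMain
import Groth.Agent.FibDim.Comp

/-!
# Semicontinuity of the dimension of a proper component along a section (EGA IV 15.7)
-/

universe u

open CategoryTheory CategoryTheory.Limits AlgebraicGeometry TopologicalSpace

set_option backward.isDefEq.respectTransparency false
set_option backward.isDefEq.respectTransparency.types false

namespace Groth.Agent.ProperNhd

variable {X Y : Scheme.{u}}

/-- The dimension of the trace of an open set on a fibre. -/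
theorem dim_open_inter_fibre (f : X ⟶ Y) [LocallyOfFiniteType f] (O : X.Opens) (y : Y) :
    topologicalKrullDim ↥((O : Set X) ∩ f ⁻¹' {y}) =
      ⨆ z : ↥((O : Set X) ∩ f ⁻¹' {y}), ((FibDim.rd f z.1 : ℕ∞) : WithBot ℕ∞) := by
  let e : ↥((O.ι ≫ f).fiber y) ≃ₜ ↥((O : Set X) ∩ f ⁻¹' {y}) := ((O.ι ≫ f).fiberHomeo y).trans
    { toFun := fun v => ⟨v.1.1, v.1.2, v.2⟩
      invFun := fun v => ⟨⟨v.1, v.2.1⟩, v.2.2⟩
      left_inv := fun _ => rfl
      right_inv := fun _ => rfl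
      continuous_toFun := (continuous_subtype_val.comp continuous_subtype_val).subtype_mk _
      continuous_invFun := (continuous_subtype_val.subtype_mk _).subtype_mk _ }
  rw [← IsHomeomorph.topologicalKrullDim_eq e e.isHomeomorph, FibDim.topologicalKrullDim_fiber]
  refine le_antisymm (iSup_le fun z => ?_) (iSup_le fun z => ?_)
  · exact le_iSup_of_le ⟨z.1.1, z.1.2, z.2⟩ (le_of_eq (by rw [FibDim.rd_opens]; rfl))
  · exact le_iSup_of_le (⟨⟨z.1, z.2.1⟩, z.2.2⟩ : ↥((O.ι ≫ f) ⁻¹' {y})) (le_of_eq (by rw [FibDim.rd_opens]; rfl))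

theorem dim_component_generization_le (f : X ⟶ Y) [IsSeparated f] [LocallyOfFinitePresentation f]
    [QuasiCompact f] (g : Y ⟶ X) (hg : g ≫ f = 𝟙 Y) (y : Y)
    (hop : IsOpen ((f.fiberι y).base ⁻¹' connectedComponentIn (f.base ⁻¹' {y}) (g.base y)))
    (hprop : IsProper (Scheme.Opens.ι (⟨(f.fiberι y).base ⁻¹' connectedComponentIn (f.base ⁻¹' {y}) (g.base y), hop⟩ : (f.fiber y).Opens) ≫
      f.fiberToSpecResidueField y))
    (y' : Y) (hy' : y' ⤳ y) :
    topologicalKrullDim ↥(connectedComponentIn (f.base ⁻¹' {y'}) (g.base y')) ≤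
      topologicalKrullDim ↥(connectedComponentIn (f.base ⁻¹' {y}) (g.base y)) := by
  obtain ⟨U, hyU, T, j, hj, hr, hp⟩ := exists_isProperOn f g hg y ((fibreProperAt_component_iff f g y).2 ⟨hop, hprop⟩)
  have hsy : ∀ z : Y, f (g z) = z := fun z => by rw [← Scheme.Hom.comp_apply, hg]; rfl
  have key : ∀ z : Y, ∃ O : X.Opens, (O : Set X) ∩ f ⁻¹' {z} = connectedComponentIn (f ⁻¹' {z}) (g z) := fun z => by
    obtain ⟨⟨O, hO, hOZ⟩, -⟩ := exists_open_closed_component f _ (hsy z) (sectionComponents_inter_fibre f g z)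
    exact ⟨⟨O, hO⟩, hOZ.trans (sectionComponents_inter_fibre f g z)⟩
  obtain ⟨O', hO'⟩ := key y'
  obtain ⟨O, hO⟩ := key y
  have hle : topologicalKrullDim ↥((O' : Set X) ∩ f ⁻¹' {y'}) ≤ topologicalKrullDim ↥((O : Set X) ∩ f ⁻¹' {y}) := by
    rw [dim_open_inter_fibre, dim_open_inter_fibre]
    refine iSup_le fun η => ?_
    have hηU : f η.1 ∈ U := by rw [show f η.1 = y' from η.2.2]; exact hy'.mem_open U.2 hyU
    have hηZ : η.1 ∈ MoreMor.sectionComponents f g :=
      ((sectionComponents_inter_fibre f g y').ge (hO'.le η.2)).1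
    obtain ⟨t, ht⟩ := hr.ge (show (f ⁻¹ᵁ U).ι ⟨η.1, hηU⟩ ∈ MoreMor.sectionComponents f g from hηZ)
    have hjt : (f ⁻¹ᵁ U).ι (j t) = η.1 := by rw [ht]; rfl
    have him : (j ≫ (f ∣_ U)) t ⤳ (⟨y, hyU⟩ : U.toScheme) := by
      refine U.ι.isOpenEmbedding.isInducing.specializes_iff.1 ?_
      show U.ι _ ⤳ y
      rw [← Scheme.Hom.comp_apply, Category.assoc, morphismRestrict_ι, Scheme.Hom.comp_apply,
        Scheme.Hom.comp_apply, hjt, show f η.1 = y' from η.2.2]
      exact hy'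
    have hcl := (j ≫ (f ∣_ U)).isClosedMap _ (isClosed_closure (s := {t}))
    obtain ⟨t', ht', ht'y⟩ := him.mem_closed hcl ⟨t, subset_closure rfl, rfl⟩
    let x := (f ⁻¹ᵁ U).ι (j t')
    have hfx : f x = y := by
      have := congrArg U.ι ht'y
      rwa [← Scheme.Hom.comp_apply, Category.assoc, morphismRestrict_ι, Scheme.Hom.comp_apply,
        Scheme.Hom.comp_apply] at this
    have hηx : η.1 ⤳ x := hjt ▸ ((specializes_iff_mem_closure.2 ht').map j.continuous).map (f ⁻¹ᵁ U).ι.continuous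
    obtain ⟨z, hz1, hz2, hfz, hle⟩ := FibDim.exists_rd_ge f hηx
    rw [hfx] at hfz
    have hzU : z ∈ f ⁻¹ᵁ U := show f z ∈ U from hfz.symm ▸ hyU
    have hclosed : IsClosed ((f ⁻¹ᵁ U).ι.base ⁻¹' MoreMor.sectionComponents f g) :=
      hr ▸ j.isClosedEmbedding.isClosed_range
    have hzZ : z ∈ MoreMor.sectionComponents f g :=
      ((f ⁻¹ᵁ U).ι.isOpenEmbedding.isInducing.specializes_iff.1
        (show (f ⁻¹ᵁ U).ι ⟨η.1, hηU⟩ ⤳ (f ⁻¹ᵁ U).ι ⟨z, hzU⟩ from hz1)).mem_closed hclosed hηZ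
    exact le_iSup_of_le ⟨z, hO.ge ((sectionComponents_inter_fibre f g y).le ⟨hzZ, hfz⟩)⟩ (by exact_mod_cast hle)
  rwa [hO, hO'] at hle

end Groth.Agent.ProperNhd
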