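import Groth.Agent.ProperNhd.CompleteLift
import Groth.Agent.ProperNhd.Descent

/-!
# Properness of flat morphisms with proper fibre and connected generic fibres (EGA IV 15.7)
-/

universe u

open CategoryTheory CategoryTheory.Limits AlgebraicGeometry TopologicalSpace IsLocalRing

set_option backward.isDefEq.respectTransparency false
set_option backward.isDefEq.respectTransparency.types false

namespace Groth.Agent.ProperNhd

theorem exists_maximal_specializes {A : Type u} [CommRing A] (p : Spec (CommRingCat.of A)) :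
    ∃ q : Spec (CommRingCat.of A), q ⤳ p ∧ ∀ r, r ⤳ q → r = q := by
  obtain ⟨P, hP, hle⟩ := Ideal.exists_minimalPrimes_le (I := (⊥ : Ideal A)) (J := p.asIdeal) bot_le
  refine ⟨⟨P, hP.1.1⟩, (PrimeSpectrum.le_iff_specializes _ _).1 hle, fun r hr => ?_⟩
  have h := (PrimeSpectrum.le_iff_specializes _ _).2 hr
  exact PrimeSpectrum.ext (le_antisymm h (hP.2 ⟨r.isPrime, bot_le⟩ h))

theorem isProper_of_flat_complete {A : Type u} [CommRing A] [IsLocalRing A] [IsNoetherianRing A]
    [IsAdicComplete (maximalIdeal A) A] {X : Scheme.{u}} (f : X ⟶ Spec (CommRingCat.of A)) [Flat f] [IsSeparated f]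
    [LocallyOfFiniteType f] [QuasiCompact f] (hne : ∃ x, f x = closedPoint A)
    (hp : IsProper (f.fiberToSpecResidueField (closedPoint A)))
    (hconn : ∀ q : Spec (CommRingCat.of A), (∀ r, r ⤳ q → r = q) → _root_.IsPreconnected (f ⁻¹' {q})) :
    IsProper f := by
  have : IsClosedImmersion ((Spec (CommRingCat.of A)).fromSpecResidueField (closedPoint A)) :=
    IsClosedImmersion.of_isPreimmersion _ (by
      rw [Scheme.range_fromSpecResidueField]; exact IsLocalRing.isClosed_singleton_closedPoint (R := A))
  have : IsClosedImmersion (f.fiberι (closedPoint A)) := MorphismProperty.pullback_fst _ _ inferInstance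
  have hjp : IsProper (f.fiberι (closedPoint A) ≫ f) := by
    have : f.fiberι (closedPoint A) ≫ f = f.fiberToSpecResidueField (closedPoint A) ≫
        (Spec (CommRingCat.of A)).fromSpecResidueField (closedPoint A) := pullback.condition
    rw [this]
    infer_instance
  obtain ⟨V, hVc, hV, hVW⟩ := exists_clopen_proper f _ subset_rfl
    ((IsLocalRing.isClosed_singleton_closedPoint (R := A)).preimage f.continuous) ⟨Set.univ, isOpen_univ, Set.univ_inter _⟩
    (f.fiberι (closedPoint A)) (f.range_fiberι _) hjp
  obtain ⟨x₀, hx₀⟩ := hne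
  have hVtop : V = ⊤ := by
    rw [eq_top_iff]
    intro c _
    by_contra hc
    obtain ⟨q, hq, hqmax⟩ := exists_maximal_specializes (f c)
    obtain ⟨c', hc', hfc'⟩ := Flat.generalizingMap f hq
    have hc'V : c' ∈ (V : Set X)ᶜ := hc'.mem_open hVc.isOpen_compl hc
    have hx₀V : x₀ ∈ (V : Set X) := (hVW.ge hx₀).1
    obtain ⟨d, hd, hfd⟩ := Flat.generalizingMap f
      (show q ⤳ f x₀ from hx₀ ▸ IsLocalRing.specializes_closedPoint q)
    obtain ⟨e, -, he⟩ := hconn q hqmax (V : Set X) (V : Set X)ᶜ V.2 hVc.isOpen_compl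
      (fun x _ => Classical.em _) ⟨d, hfd, hd.mem_open V.2 hx₀V⟩ ⟨c', hfc', hc'V⟩
    exact he.2 he.1
  subst hVtop
  have := hV
  have : IsIso (⊤ : X.Opens).ι := by rw [← Scheme.topIso_hom]; infer_instance
  have : f = inv (⊤ : X.Opens).ι ≫ (⊤ : X.Opens).ι ≫ f := (IsIso.inv_hom_id_assoc _ _).symm
  rw [this]
  infer_instance

theorem isProper_pullback_fibre {X Y Y' : Scheme.{u}} (f : X ⟶ Y) (c : Y' ⟶ Y) (p : Y') {y : Y} (h : c p = y)
    [hp : IsProper (f.fiberToSpecResidueField y)] :
    IsProper ((pullback.snd f c).fiberToSpecResidueField p) := by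
  subst h
  exact MorphismProperty.of_isPullback (P := @IsProper)
    (isPullback_fiberToSpecResidueField_of_isPullback (IsPullback.of_hasPullback f c) p) hp

theorem isConnected_pullback_fibre {X Y Y' : Scheme.{u}} (f : X ⟶ Y) (c : Y' ⟶ Y) (p : Y') {y : Y} (h : c p = y)
    [hp : GeometricallyConnected (f.fiberToSpecResidueField y)] :
    _root_.IsConnected (pullback.snd f c ⁻¹' {p}) := by
  subst h
  have : GeometricallyConnected ((pullback.snd f c).fiberToSpecResidueField p) :=
    MorphismProperty.of_isPullback (P := @GeometricallyConnected)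
      (isPullback_fiberToSpecResidueField_of_isPullback (IsPullback.of_hasPullback f c) p) hp
  have : ConnectedSpace ((pullback.snd f c).fiber p) :=
    GeometricallyConnected.connectedSpace_of_subsingleton ((pullback.snd f c).fiberToSpecResidueField p)
  rw [← (pullback.snd f c).range_fiberι, ← Set.image_univ]
  exact isConnected_univ.image _ ((pullback.snd f c).fiberι _).continuous.continuousOn

theorem exists_isProper_nhd_of_flat {X Y : Scheme.{u}} [IsLocallyNoetherian Y] (f : X ⟶ Y) [Flat f] [IsSeparated f]
    [LocallyOfFiniteType f] [QuasiCompact f] (y : Y) (hne : ∃ x, f x = y)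
    (hp : IsProper (f.fiberToSpecResidueField y))
    (hgen : ∀ η : Y, (∀ η' : Y, η' ⤳ η → η' = η) → (∃ x, f x = η) →
      GeometricallyConnected (f.fiberToSpecResidueField η)) :
    ∃ U : Y.Opens, y ∈ U ∧ IsProper (f ∣_ U) := by
  have : IsProper (pullback.snd f (fromCpl y)) := by
    refine isProper_of_flat_complete (pullback.snd f (fromCpl y)) ?_
      (isProper_pullback_fibre f (fromCpl y) _ (fromCpl_closedPoint y)) fun q hq => ?_
    · obtain ⟨x, hx⟩ := hne
      obtain ⟨z, -, hz⟩ := Scheme.Pullback.exists_preimage_pullback (f := f) (g := fromCpl y) x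
        (closedPoint (EGA4.Cpl (Y.presheaf.stalk y))) (hx.trans (fromCpl_closedPoint y).symm)
      exact ⟨z, hz⟩
    · rcases (pullback.snd f (fromCpl y) ⁻¹' {q}).eq_empty_or_nonempty with h | ⟨z, hz⟩
      · rw [h]; exact isPreconnected_empty
      have := hgen (fromCpl y q) (fun _ h' => maximal_fromCpl y hq h')
        ⟨pullback.fst f (fromCpl y) z, by
          rw [← Scheme.Hom.comp_apply, pullback.condition, Scheme.Hom.comp_apply, hz]⟩
      exact (isConnected_pullback_fibre f (fromCpl y) q rfl).isPreconnected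
  exact exists_isProper_nhd_of_completion y f

end Groth.Agent.ProperNhd
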