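import Groth.Agent.H23.RedSub
import Mathlib.AlgebraicGeometry.Morphisms.Proper

/-!
# A subset proper over an open of the base, and its behaviour under base change
-/

universe u

open CategoryTheory CategoryTheory.Limits AlgebraicGeometry TopologicalSpace

set_option backward.isDefEq.respectTransparency false
set_option backward.isDefEq.respectTransparency.types false

namespace Groth.Agent.ProperNhd

variable {X Y X' Y' : Scheme.{u}}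

/-- `Z ∩ f⁻¹ U` underlies a closed subscheme of `f⁻¹ U` proper over `U`. -/
def IsProperOn (f : X ⟶ Y) (U : Y.Opens) (Z : Set X) : Prop :=
  ∃ (T : Scheme.{u}) (j : T ⟶ (f ⁻¹ᵁ U).toScheme), IsClosedImmersion j ∧
    Set.range j = (f ⁻¹ᵁ U).ι.base ⁻¹' Z ∧ IsProper (j ≫ (f ∣_ U))

theorem IsProperOn.of_vanishingIdeal {f : X ⟶ Y} {U : Y.Opens} {Z : Set X}
    {hC : IsClosed ((f ⁻¹ᵁ U).ι.base ⁻¹' Z)}
    (h : IsProper ((Scheme.IdealSheafData.vanishingIdeal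
      (⟨(f ⁻¹ᵁ U).ι.base ⁻¹' Z, hC⟩ : TopologicalSpace.Closeds ↥(f ⁻¹ᵁ U))).subschemeι ≫ (f ∣_ U))) :
    IsProperOn f U Z :=
  ⟨_, _, inferInstance, H23.RedSub.range_vanishingIdeal _, h⟩

theorem IsProperOn.pack {f : X ⟶ Y} {U : Y.Opens} {Z : Set X} (h : IsProperOn f U Z) :
    ∃ hC : IsClosed ((f ⁻¹ᵁ U).ι.base ⁻¹' Z),
      IsProper ((Scheme.IdealSheafData.vanishingIdeal
        (⟨(f ⁻¹ᵁ U).ι.base ⁻¹' Z, hC⟩ : TopologicalSpace.Closeds ↥(f ⁻¹ᵁ U))).subschemeι ≫ (f ∣_ U)) := by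
  obtain ⟨T, j, hj, hr, hp⟩ := h
  have hC : IsClosed ((f ⁻¹ᵁ U).ι.base ⁻¹' Z) := hr ▸ j.isClosedEmbedding.isClosed_range
  refine ⟨hC, ?_⟩
  let C : Closeds ↥((f ⁻¹ᵁ U).toScheme) := ⟨_, hC⟩
  let a := (Scheme.IdealSheafData.vanishingIdeal C).subschemeι
  have : IsReduced (Scheme.IdealSheafData.vanishingIdeal C).subscheme := H23.RedSub.isReduced_vanishingIdeal C
  obtain ⟨u, hu⟩ := H23.RedSub.exists_lift_closed a j (by
    rw [show Set.range a = (C : Set ↥((f ⁻¹ᵁ U).toScheme)) from H23.RedSub.range_vanishingIdeal C, hr]; rfl)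
  have : IsClosedImmersion (u ≫ j) := hu ▸ inferInstance
  have : IsClosedImmersion u := IsClosedImmersion.of_comp u j
  show IsProper (a ≫ (f ∣_ U))
  rw [← hu, Category.assoc]
  infer_instance

theorem isPullback_restrict {q : X' ⟶ X} {f' : X' ⟶ Y'} {f : X ⟶ Y} {p : Y' ⟶ Y} (sq : IsPullback q f' f p)
    (U : Y.Opens) :
    IsPullback (q.resLE (f ⁻¹ᵁ U) (f' ⁻¹ᵁ (p ⁻¹ᵁ U))
      (by rw [← Scheme.Hom.comp_preimage, ← sq.w, Scheme.Hom.comp_preimage]))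
      (f' ∣_ (p ⁻¹ᵁ U)) (f ∣_ U) (p ∣_ U) := by
  refine IsPullback.of_right ?_ ?_ (isPullback_morphismRestrict f U).flip
  · rw [Scheme.Hom.resLE_comp_ι, morphismRestrict_ι]
    exact (isPullback_morphismRestrict f' (p ⁻¹ᵁ U)).flip.paste_horiz sq
  · rw [← cancel_mono U.ι, Category.assoc, morphismRestrict_ι, Scheme.Hom.resLE_comp_ι_assoc, sq.w,
      Category.assoc, morphismRestrict_ι, morphismRestrict_ι_assoc]

theorem IsProperOn.baseChange {q : X' ⟶ X} {f' : X' ⟶ Y'} {f : X ⟶ Y} {p : Y' ⟶ Y} (sq : IsPullback q f' f p)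
    {U : Y.Opens} {Z : Set X} (h : IsProperOn f U Z) : IsProperOn f' (p ⁻¹ᵁ U) (q ⁻¹' Z) := by
  obtain ⟨T, j, hj, hr, hp⟩ := h
  let b := q.resLE (f ⁻¹ᵁ U) (f' ⁻¹ᵁ (p ⁻¹ᵁ U))
    (by rw [← Scheme.Hom.comp_preimage, ← sq.w, Scheme.Hom.comp_preimage])
  refine ⟨pullback j b, pullback.snd j b, inferInstance, ?_, MorphismProperty.of_isPullback (P := @IsProper)
    ((IsPullback.of_hasPullback j b).paste_vert (isPullback_restrict sq U)) hp⟩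
  rw [Scheme.Pullback.range_snd, hr]
  ext v
  show (f ⁻¹ᵁ U).ι (b v) ∈ Z ↔ q ((f' ⁻¹ᵁ (p ⁻¹ᵁ U)).ι v) ∈ Z
  rw [← Scheme.Hom.comp_apply, Scheme.Hom.resLE_comp_ι, Scheme.Hom.comp_apply]

theorem IsProperOn.of_open {W : Y.Opens} {f : X ⟶ Y} {U : W.toScheme.Opens} {Z : Set X}
    (h : IsProperOn (f ∣_ W) U ((f ⁻¹ᵁ W).ι.base ⁻¹' Z)) : IsProperOn f (W.ι ''ᵁ U) Z := by
  obtain ⟨V, rfl⟩ : ∃ V, U = W.ι ⁻¹ᵁ V := ⟨W.ι ''ᵁ U, (W.ι.preimage_image_eq U).symm⟩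
  let V' := W.ι ''ᵁ (W.ι ⁻¹ᵁ V)
  have hV' : W.ι ⁻¹ᵁ V' = W.ι ⁻¹ᵁ V := W.ι.preimage_image_eq _
  rw [← hV'] at h
  obtain ⟨T, j, hj, hr, hp⟩ := h
  have hiso : IsIso (W.ι ∣_ V') := by
    have : Surjective (W.ι ∣_ V') := ⟨fun v => by
      obtain ⟨w, -, hw⟩ := v.2
      refine ⟨⟨w, show W.ι w ∈ V' from hw.symm ▸ v.2⟩, Subtype.ext ?_⟩
      exact (morphismRestrict_base_coe W.ι V' _).trans hw⟩
    have : Epi (W.ι ∣_ V').base := (TopCat.epi_iff_surjective _).2 (W.ι ∣_ V').surjective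
    exact IsOpenImmersion.isIso (W.ι ∣_ V')
  have sq := isPullback_restrict (isPullback_morphismRestrict f W).flip V'
  let b := Scheme.Hom.resLE (f ⁻¹ᵁ W).ι (f ⁻¹ᵁ V') ((f ∣_ W) ⁻¹ᵁ (W.ι ⁻¹ᵁ V'))
        (by rw [← Scheme.Hom.comp_preimage, morphismRestrict_ι, Scheme.Hom.comp_preimage])
  have : IsIso b := sq.isIso_fst_of_isIso
  refine ⟨T, j ≫ b, inferInstance, ?_, ?_⟩
  · rw [Scheme.Hom.comp_base, TopCat.coe_comp, Set.range_comp, hr]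
    ext v
    constructor
    · rintro ⟨w, hw, rfl⟩
      show (f ⁻¹ᵁ V').ι _ ∈ Z
      rw [← Scheme.Hom.comp_apply, Scheme.Hom.resLE_comp_ι]
      exact hw
    · intro hv
      obtain ⟨w, rfl⟩ := b.surjective v
      refine ⟨w, ?_, rfl⟩
      have hv' : (f ⁻¹ᵁ V').ι _ ∈ Z := hv
      rw [← Scheme.Hom.comp_apply, Scheme.Hom.resLE_comp_ι] at hv'
      exact hv'
  · rw [Category.assoc, sq.w, ← Category.assoc]
    infer_instance

end Groth.Agent.ProperNhd
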