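import Groth.Agent.ProperNhd.Component
import Groth.Agent.ProperNhd.ConnFibre
import Groth.Agent.GrpSchLib.HomFlat
import Groth.Agent.S1324
import Groth.Prelude.Def_MoreMor

/-!
# Properness near a point of the components along a section (EGA IV 15.7.11)
-/

universe u

open CategoryTheory CategoryTheory.Limits AlgebraicGeometry TopologicalSpace IsLocalRing

set_option backward.isDefEq.respectTransparency false
set_option backward.isDefEq.respectTransparency.types false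

namespace Groth.Agent.ProperNhd

variable {X Y : Scheme.{u}}

theorem sectionComponents_inter_fibre (f : X ⟶ Y) (s : Y ⟶ X) (y : Y) :
    MoreMor.sectionComponents f s ∩ f ⁻¹' {y} = connectedComponentIn (f ⁻¹' {y}) (s y) := by
  ext x
  constructor
  · rintro ⟨hx, rfl⟩; exact hx
  · intro hx
    have hxy : f x = y := connectedComponentIn_subset (f ⁻¹' {y}) (s y) hx
    subst hxy
    exact ⟨hx, rfl⟩

theorem section_mem_sectionComponents (f : X ⟶ Y) (s : Y ⟶ X) (hs : s ≫ f = 𝟙 Y) (y : Y) :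
    s y ∈ MoreMor.sectionComponents f s := by
  have h : f (s y) = y := by rw [← Scheme.Hom.comp_apply, hs]; rfl
  show s y ∈ connectedComponentIn (f ⁻¹' {f (s y)}) (s (f (s y)))
  rw [h]
  exact mem_connectedComponentIn h

variable [IsLocallyNoetherian Y]

theorem compData_sectionComponents (f : X ⟶ Y) [LocallyOfFiniteType f] (s : Y ⟶ X) (hs : s ≫ f = 𝟙 Y) (y : Y)
    (hop : IsOpen ((f.fiberι y).base ⁻¹' connectedComponentIn (f.base ⁻¹' {y}) (s.base y)))
    (hprop : IsProper (Scheme.Opens.ι (⟨(f.fiberι y).base ⁻¹' connectedComponentIn (f.base ⁻¹' {y}) (s.base y), hop⟩ : (f.fiber y).Opens) ≫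
      f.fiberToSpecResidueField y)) :
    CompData f y (MoreMor.sectionComponents f s) := by
  have hsy : ∀ y' : Y, f (s y') = y' := fun y' => by rw [← Scheme.Hom.comp_apply, hs]; rfl
  refine ⟨fun y' _ => exists_open_closed_component f _ (hsy y') (sectionComponents_inter_fibre f s y'), ?_, ?_, ?_⟩
  · intro P Y' p g h hP q _
    have hσ : hP.lift (h ≫ s) (𝟙 Y') (by rw [Category.assoc, hs, Category.comp_id, Category.id_comp]) ≫ g = 𝟙 Y' :=
      hP.lift_snd _ _ _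
    rw [← Groth.Agent.S1324.result f s hs g p h hP _ hσ (hP.lift_fst _ _ _), Set.inter_comm,
      sectionComponents_inter_fibre]
    exact isConnected_connectedComponentIn_iff.2 (by
      show g _ = q
      rw [← Scheme.Hom.comp_apply, hσ]; rfl)
  · intro P Y' p g h hP _ E W hW hWE
    let σ := hP.lift (h ≫ s) (𝟙 Y') (by rw [Category.assoc, hs, Category.comp_id, Category.id_comp])
    have : E = σ ⁻¹' W := by
      ext q
      have hp : p (σ q) ∈ MoreMor.sectionComponents f s := by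
        rw [← Scheme.Hom.comp_apply, hP.lift_fst, Scheme.Hom.comp_apply]
        exact section_mem_sectionComponents f s hs _
      have hg : g (σ q) = q := by rw [← Scheme.Hom.comp_apply, hP.lift_snd]; rfl
      have := Set.ext_iff.1 hWE (σ q)
      simp only [Set.mem_inter_iff, Set.mem_preimage, hg, hp, and_true] at this
      exact this.symm
    exact this ▸ hW.preimage σ.continuous
  · have he : (f.fiberι y).base ⁻¹' connectedComponentIn (f.base ⁻¹' {y}) (s.base y) =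
        (f.fiberι y).base ⁻¹' MoreMor.sectionComponents f s := by
      rw [← sectionComponents_inter_fibre]
      ext v
      exact ⟨fun h => h.1, fun h => ⟨h, (f.range_fiberι y).subset ⟨v, rfl⟩⟩⟩
    revert hop
    rw [he]
    exact fun hop hprop => ⟨hop, hprop⟩

variable {y : Y} {f : X ⟶ Y} [IsSeparated f] [LocallyOfFiniteType f] [QuasiCompact f]

omit [IsLocallyNoetherian Y] [IsSeparated f] [LocallyOfFiniteType f] [QuasiCompact f] in
theorem CompData.congr {Z Z₀ : Set X} (D : CompData f y Z) (h : ∀ x, f x ⤳ y → (x ∈ Z₀ ↔ x ∈ Z)) :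
    CompData f y Z₀ := by
  refine ⟨fun y' hy' => ?_, fun {P Y' p g q'} hP q hq => ?_, fun {P Y' p g q'} hP hh E W hW hWE => ?_, ?_⟩
  · have e : Z₀ ∩ f ⁻¹' {y'} = Z ∩ f ⁻¹' {y'} := Set.ext fun x =>
      and_congr_left fun hx => h x (by rw [show f x = y' from hx]; exact hy')
    rw [e]; exact D.loc y' hy'
  · have e : g ⁻¹' {q} ∩ p ⁻¹' Z₀ = g ⁻¹' {q} ∩ p ⁻¹' Z := Set.ext fun v =>
      and_congr_right fun hv => h (p v) (by
        rw [← Scheme.Hom.comp_apply, hP.w, Scheme.Hom.comp_apply, show g v = q from hv]; exact hq)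
    rw [e]; exact D.conn hP q hq
  · have e : p ⁻¹' Z₀ = p ⁻¹' Z := Set.ext fun v => h (p v) (by
      rw [← Scheme.Hom.comp_apply, hP.w, Scheme.Hom.comp_apply]; exact hh _)
    exact D.sub hP hh E W hW (e ▸ hWE)
  · have e : (f.fiberι y).base ⁻¹' Z₀ = (f.fiberι y).base ⁻¹' Z := Set.ext fun v => h _
      (specializes_of_eq ((f.range_fiberι y).subset ⟨v, rfl⟩))
    rw [e]; exact D.fibre

set_option maxHeartbeats 1000000 in
/-- Near the generic point of the closure of a generisation of `y`, the components along the section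
form a closed set. -/
theorem exists_nhd_closure_component (s : Y ⟶ X) (hs : s ≫ f = 𝟙 Y)
    (D : CompData f y (MoreMor.sectionComponents f s)) {η : Y} (hη : η ⤳ y) :
    ∃ W : Y.Opens, η ∈ W ∧
      Topology.IsLocallyConstructible (MoreMor.sectionComponents f s ∩ f ⁻¹' ((W : Set Y) ∩ closure {η})) := by
  let Z := MoreMor.sectionComponents f s
  have : IsLocallyNoetherian X := LocallyOfFiniteType.isLocallyNoetherian f
  let S : Set X := closure (Z ∩ f ⁻¹' {η})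
  have hSη : S ⊆ f ⁻¹' closure {η} :=
    closure_minimal (fun x hx => subset_closure hx.2) (isClosed_closure.preimage f.continuous)
  have hsy : ∀ y' : Y, f (s y') = y' := fun y' => by rw [← Scheme.Hom.comp_apply, hs]; rfl
  obtain ⟨⟨O, hO, hOZ⟩, ⟨C, hC, hCZ⟩⟩ := D.loc η hη
  have hS : ∀ x, f x ⤳ y → x ∈ S → x ∈ Z := by
    intro x hxy hx
    have himg : f.fiberι η '' (f.fiberι η ⁻¹' C) = Z ∩ f ⁻¹' {η} := by
      rw [Set.image_preimage_eq_inter_range, f.range_fiberι, hCZ]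
    obtain ⟨w, hw, hwx⟩ := ProConsLib.exists_specializes_of_mem_closure_image_scheme
      (ProConsLib.isProConstructible_of_isLocallyClosed (hC.preimage (f.fiberι η).continuous).isLocallyClosed
        fun V hV => hV.isCompact.inter_left (hC.preimage (f.fiberι η).continuous))
      (f.fiberι η) (show x ∈ closure (f.fiberι η '' (f.fiberι η ⁻¹' C)) from himg.symm ▸ hx)
    exact D.mem_of_specializes hxy (himg.le ⟨w, hw, rfl⟩).1 hwx
  let Sc : Closeds X := ⟨S, isClosed_closure⟩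
  let j := (Scheme.IdealSheafData.vanishingIdeal Sc).subschemeι
  have hrj : Set.range j = S := H23.RedSub.range_vanishingIdeal Sc
  obtain ⟨U₁, hyU₁, hU₁⟩ := D.exists_isProper_closed j hrj hS
  have hηU₁ : η ∈ U₁ := hη.mem_open U₁.2 hyU₁
  -- the integral closed subscheme with generic point `η`
  obtain ⟨Y₁, i, hi, hY₁, hr, hgen⟩ := ConsPropLib.exists_integral_closure η
  let o : Y₁.Opens := i ⁻¹ᵁ U₁
  let l : o.toScheme ⟶ U₁ := i ∣_ U₁
  let T₂ := pullback ((j ≫ f) ∣_ U₁) l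
  let g₂ : T₂ ⟶ o := pullback.snd _ _
  have : IsProper g₂ := MorphismProperty.pullback_snd _ _ hU₁
  have hP₂ : IsPullback (pullback.fst ((j ≫ f) ∣_ U₁) l ≫ ((j ≫ f) ⁻¹ᵁ U₁).ι) g₂ (j ≫ f) (l ≫ U₁.ι) :=
    (IsPullback.of_hasPullback _ _).paste_horiz (isPullback_morphismRestrict (j ≫ f) U₁).flip
  have hgo : genericPoint Y₁ ∈ o := show i (genericPoint Y₁) ∈ U₁ from hgen.symm ▸ hηU₁
  have : Nonempty o.toScheme := ⟨⟨_, hgo⟩⟩
  have : IsReduced o.toScheme := isReduced_of_isOpenImmersion o.ι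
  have : IsLocallyNoetherian Y₁ := LocallyOfFiniteType.isLocallyNoetherian i
  have : IsLocallyNoetherian o.toScheme := LocallyOfFiniteType.isLocallyNoetherian o.ι
  obtain ⟨V, hVne, hVflat⟩ := GrpSchLib.exists_opens_flat g₂
  let g₃ := g₂ ∣_ V
  have : Flat g₃ := by
    rw [Flat.iff_flat_stalkMap]
    intro v
    exact (RingHom.Flat.respectsIso.arrow_mk_iso_iff (morphismRestrictStalkMap g₂ V v)).2 (hVflat v.1 v.2)
  have : IsProper g₃ := IsZariskiLocalAtTarget.restrict (P := @IsProper) inferInstance V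
  let h₃ : V.toScheme ⟶ Y := V.ι ≫ l ≫ U₁.ι
  have hP₃ : IsPullback ((g₂ ⁻¹ᵁ V).ι ≫ pullback.fst ((j ≫ f) ∣_ U₁) l ≫ ((j ≫ f) ⁻¹ᵁ U₁).ι) g₃ (j ≫ f) h₃ :=
    (isPullback_morphismRestrict g₂ V).flip.paste_horiz hP₂
  have hh₃ : ∀ v, h₃ v = i (o.ι (V.ι v)) := fun v => by
    show (V.ι ≫ (i ∣_ U₁) ≫ U₁.ι) v = _
    rw [morphismRestrict_ι]; rfl
  have hgV : ∀ v : o.toScheme, v ∈ V → genericPoint Y₁ ⤳ o.ι v := fun v _ => genericPoint_specializes _
  let e₀ : o.toScheme := ⟨genericPoint Y₁, hgo⟩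
  have he₀ : e₀ ∈ V := by
    obtain ⟨v, hv⟩ := hVne
    exact (o.ι.isOpenEmbedding.isInducing.specializes_iff.1 (genericPoint_specializes (o.ι v)) : e₀ ⤳ v).mem_open V.2 hv
  -- the generic fibre
  have hgen' : GeometricallyConnected ((j ≫ f).fiberToSpecResidueField η) := by
    refine ⟨geometrically_iff_of_isClosedUnderIsomorphisms.mpr fun K _ x => ?_⟩
    let hK := x ≫ Y.fromSpecResidueField η
    have hKη : ∀ q, hK q = η := fun q => by rw [Scheme.Hom.comp_apply, Scheme.fromSpecResidueField_apply]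
    let P := pullback f hK
    have hc := D.conn (IsPullback.of_hasPullback f hK) (closedPoint K) (by rw [hKη]; exact hη)
    let L : pullback (j ≫ f) hK ⟶ pullback f hK := pullback.lift (pullback.fst (j ≫ f) hK ≫ j)
      (pullback.snd (j ≫ f) hK) (by rw [Category.assoc, pullback.condition])
    have hl : IsPullback L (pullback.fst (j ≫ f) hK) (pullback.fst f hK) j := by
      refine IsPullback.of_right (h₁₂ := pullback.snd f hK) (h₂₂ := f) ?_ (pullback.lift_fst _ _ _)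
        (IsPullback.of_hasPullback f hK).flip
      rw [pullback.lift_snd]
      exact (IsPullback.of_hasPullback (j ≫ f) hK).flip
    have : IsClosedImmersion L := MorphismProperty.of_isPullback (P := @IsClosedImmersion) hl.flip inferInstance
    have hrL : Set.range L = pullback.snd f hK ⁻¹' {closedPoint K} ∩ pullback.fst f hK ⁻¹' Z := by
      refine Set.Subset.antisymm ?_ ?_
      · rintro _ ⟨w, rfl⟩
        refine ⟨Subsingleton.elim (α := PrimeSpectrum K) _ _, hS _ ?_ ?_⟩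
        · rw [← Scheme.Hom.comp_apply, pullback.condition, Scheme.Hom.comp_apply, hKη]; exact hη
        · rw [← Scheme.Hom.comp_apply, pullback.lift_fst, ← hrj]
          exact ⟨_, (Scheme.Hom.comp_apply _ _ _).symm⟩
      · rintro v ⟨-, hv⟩
        obtain ⟨t, ht⟩ := hrj.ge (show pullback.fst f hK v ∈ S from subset_closure ⟨hv, by
          show f _ = η
          rw [← Scheme.Hom.comp_apply, pullback.condition, Scheme.Hom.comp_apply, hKη]⟩)
        obtain ⟨w, hw, -⟩ := Scheme.exists_preimage_of_isPullback hl v t ht.symm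
        exact ⟨w, hw⟩
    have hcs : ConnectedSpace ↥(pullback (j ≫ f) hK) := by
      rw [connectedSpace_iff_univ]
      refine ⟨?_, L.isEmbedding.isInducing.isPreconnected_image.1 ?_⟩
      · obtain ⟨w, -⟩ := hrL.ge hc.nonempty.choose_spec
        exact ⟨w, trivial⟩
      · rw [Set.image_univ, hrL]; exact hc.isPreconnected
    exact (pullbackLeftPullbackSndIso (j ≫ f) (Y.fromSpecResidueField η) x).hom.homeomorph.connectedSpace_iff.2 hcs
  -- all fibres near `η` are connected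
  have hmem : ∀ y' ∈ closure ({η} : Set Y), s y' ∈ S := fun y' hy' => by
    have : s η ⤳ s y' := (specializes_iff_mem_closure.2 hy').map s.continuous
    exact closure_mono (by rintro _ rfl; exact ⟨section_mem_sectionComponents f s hs η, hsy η⟩)
      this.mem_closure
  have hgc : ∀ v : V.toScheme, _root_.IsPreconnected (f ⁻¹' {h₃ v} ∩ S) := fun v => by
    have hne : ∃ t, g₃ t = v := by
      obtain ⟨t, ht⟩ := hrj.ge (hmem (h₃ v) (by
        rw [hh₃, ← hr]; exact ⟨_, rfl⟩))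
      obtain ⟨w, -, hw⟩ := Scheme.exists_preimage_of_isPullback hP₃ t v (by
        rw [Scheme.Hom.comp_apply, ht, hsy])
      exact ⟨w, hw⟩
    have hG : GeometricallyConnected (g₃.fiberToSpecResidueField v) :=
      geometricallyConnected_fibre_of_flat_proper g₃ v hne fun e he _ => by
        have hsp : (⟨e₀, he₀⟩ : V.toScheme) ⤳ e :=
          V.ι.isOpenEmbedding.isInducing.specializes_iff.1
            (o.ι.isOpenEmbedding.isInducing.specializes_iff.1 (genericPoint_specializes _))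
        obtain rfl := he _ hsp
        have hh : h₃ ⟨e₀, he₀⟩ = η := by rw [hh₃]; exact hgen
        exact MorphismProperty.of_isPullback (P := @GeometricallyConnected)
          (isPullback_fiberToSpecResidueField_of_isPullback hP₃ ⟨e₀, he₀⟩) (by rw [hh]; exact hgen')
    have : ConnectedSpace (g₃.fiber v) :=
      GeometricallyConnected.connectedSpace_of_subsingleton (g₃.fiberToSpecResidueField v)
    let π : g₃.fiber v ⟶ X :=
      g₃.fiberι v ≫ ((g₂ ⁻¹ᵁ V).ι ≫ pullback.fst ((j ≫ f) ∣_ U₁) l ≫ ((j ≫ f) ⁻¹ᵁ U₁).ι) ≫ j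
    have hπ : π '' Set.univ = f ⁻¹' {h₃ v} ∩ S := by
      rw [Scheme.Hom.comp_base, TopCat.coe_comp, Set.image_univ, Set.range_comp, g₃.range_fiberι]
      ext x
      constructor
      · rintro ⟨w, hw, rfl⟩
        refine ⟨?_, hrj ▸ ⟨_, (Scheme.Hom.comp_apply _ _ _).symm⟩⟩
        show f _ = _
        rw [← Scheme.Hom.comp_apply, Category.assoc, hP₃.w, Scheme.Hom.comp_apply, show g₃ w = v from hw]
      · rintro ⟨hx, hxS⟩
        obtain ⟨t, rfl⟩ := hrj.ge hxS
        obtain ⟨w, hw1, hw2⟩ := Scheme.exists_preimage_of_isPullback hP₃ t v (by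
          rw [Scheme.Hom.comp_apply]; exact hx)
        exact ⟨w, hw2, by rw [Scheme.Hom.comp_apply, hw1]⟩
    rw [← hπ]
    exact isPreconnected_univ.image π π.continuous.continuousOn
  -- the component is cut out by `O` nearby
  have hbad : ∀ E : Set X, ProCons.IsProConstructible E → E ⊆ f ⁻¹' closure {η} → (∀ x ∈ E, f x ≠ η) →
      η ∉ closure (f '' E) := by
    intro E hE hsub hne hmem'
    obtain ⟨x, hx, hxη⟩ := ProConsLib.exists_specializes_of_mem_closure_image_scheme hE f hmem'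
    exact hne x hx (hxη.antisymm (specializes_iff_mem_closure.2 (hsub hx))).eq
  have hSZ : ∀ x, f x = η → (x ∈ S ↔ x ∈ Z) := fun x hx =>
    ⟨hS x (hx ▸ hη), fun h => subset_closure ⟨h, hx⟩⟩
  have hSc : IsClosed S := isClosed_closure
  have hlc1 := FibDim.isLocallyConstructible_inter (X := X) isOpen_univ (hSc.inter hO.isClosed_compl)
  rw [Set.univ_inter] at hlc1
  have hb1 := hbad (S ∩ Oᶜ) (isProConstructible_of_isLocallyConstructible hlc1) (fun x hx => hSη hx.1)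
    fun x hx hxη => hx.2 (hOZ.ge ⟨(hSZ x hxη).1 hx.1, hxη⟩).1
  have hb2 := hbad ((Sᶜ ∩ O) ∩ f ⁻¹' closure {η}) (isProConstructible_of_isLocallyConstructible
      (FibDim.isLocallyConstructible_inter (hSc.isOpen_compl.inter hO) (isClosed_closure.preimage f.continuous)))
    (fun x hx => hx.2) fun x hx hxη => hx.1.1 ((hSZ x hxη).2 (hOZ.le ⟨hx.1.2, hxη⟩).1)
  have hVo : IsOpen (i ⁻¹' Set.univ ∩ o.ι '' (V : Set o.toScheme)) :=
    (isOpen_univ.preimage i.continuous).inter (o.ι.isOpenEmbedding.isOpenMap _ V.2)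
  obtain ⟨W₀, hW₀, hW₀'⟩ := i.isEmbedding.isInducing.isOpen_iff.1 hVo
  let W : Y.Opens := ⟨W₀ ∩ ((closure (f '' (S ∩ Oᶜ)))ᶜ ∩ (closure (f '' ((Sᶜ ∩ O) ∩ f ⁻¹' closure {η})))ᶜ),
    hW₀.inter (isClosed_closure.isOpen_compl.inter isClosed_closure.isOpen_compl)⟩
  have hηW : η ∈ W := by
    refine ⟨?_, hb1, hb2⟩
    have : genericPoint Y₁ ∈ i ⁻¹' W₀ := hW₀'.ge ⟨trivial, e₀, he₀, rfl⟩
    exact hgen ▸ this
  refine ⟨W, hηW, ?_⟩
  have heq : Z ∩ f ⁻¹' ((W : Set Y) ∩ closure {η}) = ((f ⁻¹ᵁ W : X.Opens) : Set X) ∩ S := by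
    have hfib : ∀ x, f x ∈ W → f x ∈ closure ({η} : Set Y) → (x ∈ Z ↔ x ∈ S) := by
      intro x hxW hxη
      obtain ⟨y₁, hy₁⟩ : f x ∈ Set.range i := hr.ge hxη
      obtain ⟨-, v, hv, hvy⟩ := hW₀'.le (show y₁ ∈ i ⁻¹' W₀ from show i y₁ ∈ W₀ from hy₁.symm ▸ hxW.1)
      have hv3 : h₃ ⟨v, hv⟩ = f x := by rw [hh₃, ← hy₁, ← hvy]; rfl
      have hsx : s (f x) ∈ f ⁻¹' {f x} ∩ S := ⟨hsy _, hmem _ hxη⟩
      constructor
      · intro hxZ
        have hO1 : ∀ w ∈ f ⁻¹' {f x}, w ∈ S → w ∈ O := fun w hw hwS => by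
          by_contra hn
          exact hxW.2.1 (subset_closure ⟨w, ⟨hwS, hn⟩, hw⟩)
        have hO2 : ∀ w ∈ f ⁻¹' {f x}, w ∈ O → w ∈ S := fun w hw hwO => by
          by_contra hn
          exact hxW.2.2 (subset_closure ⟨w, ⟨⟨hn, hwO⟩, Set.mem_preimage.2 (by rw [show f w = f x from hw]; exact hxη)⟩, hw⟩)
        by_contra hn
        obtain ⟨e, he, he1, he2⟩ := isPreconnected_connectedComponentIn (F := f ⁻¹' {f x}) (x := s (f x)) O Sᶜ hO
          isClosed_closure.isOpen_compl (fun w hw => by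
            have hw' := connectedComponentIn_subset _ _ hw
            by_cases hwS : w ∈ S
            · exact Or.inl (hO1 w hw' hwS)
            · exact Or.inr hwS)
          ⟨s (f x), mem_connectedComponentIn hsx.1, hO1 _ hsx.1 hsx.2⟩ ⟨x, hxZ, hn⟩
        exact he2 (hO2 e (connectedComponentIn_subset _ _ he) he1)
      · intro hxS
        exact (hv3 ▸ hgc ⟨v, hv⟩).subset_connectedComponentIn hsx Set.inter_subset_left ⟨rfl, hxS⟩
    ext x
    exact ⟨fun ⟨h, hW, hc⟩ => ⟨hW, (hfib x hW hc).1 h⟩, fun ⟨hW, h⟩ => ⟨(hfib x hW (hSη h)).2 h, hW, hSη h⟩⟩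
  rw [show MoreMor.sectionComponents f s ∩ f ⁻¹' ((W : Set Y) ∩ closure {η}) = _ from heq]
  exact FibDim.isLocallyConstructible_inter (f ⁻¹ᵁ W).2 isClosed_closure

theorem exists_nhd_isLocallyConstructible (s : Y ⟶ X) (hs : s ≫ f = 𝟙 Y)
    (D : CompData f y (MoreMor.sectionComponents f s)) :
    ∃ U : Y.Opens, y ∈ U ∧ Topology.IsLocallyConstructible (MoreMor.sectionComponents f s ∩ f ⁻¹' U) := by
  have : IsLocallyNoetherian X := LocallyOfFiniteType.isLocallyNoetherian f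
  obtain ⟨_, ⟨(A : Y.Opens), hA, rfl⟩, hyA, -⟩ :=
    Y.isBasis_affineOpens.exists_subset_of_mem_open (Set.mem_univ y) isOpen_univ
  have : IsAffine A := hA
  have : IsNoetherian A.toScheme := { toCompactSpace := isCompact_iff_compactSpace.1 hA.isCompact }
  let Z := MoreMor.sectionComponents f s
  suffices h : ∀ F : Closeds A.toScheme, ∃ U : Y.Opens, y ∈ U ∧ U ≤ A ∧
      Topology.IsLocallyConstructible (Z ∩ f ⁻¹' ((U : Set Y) ∩ A.ι '' F)) by
    obtain ⟨U, hyU, hUA, hU⟩ := h ⊤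
    refine ⟨U, hyU, ?_⟩
    rwa [Closeds.coe_top, Set.image_univ, Scheme.Opens.range_ι, Set.inter_eq_left.2 (show (U : Set Y) ⊆ A from hUA)] at hU
  intro F
  induction F using WellFoundedLT.induction with
  | ind F IH =>
  have hempty : Topology.IsLocallyConstructible (∅ : Set X) := Topology.IsLocallyConstructible.empty
  by_cases hyF : (⟨y, hyA⟩ : A.toScheme) ∈ F
  swap
  · refine ⟨A.ι ''ᵁ F.compl, ⟨⟨y, hyA⟩, hyF, rfl⟩, by rintro _ ⟨a, -, rfl⟩; exact a.2, ?_⟩
    convert hempty using 1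
    rw [Set.eq_empty_iff_forall_notMem]
    rintro x ⟨-, ⟨a, ha, hax⟩, ⟨b, hb, hbx⟩⟩
    obtain rfl := A.ι.isOpenEmbedding.injective (hax.trans hbx.symm)
    exact ha hb
  by_cases hirr : _root_.IsPreirreducible (F : Set A.toScheme)
  · obtain ⟨e, he⟩ : ∃ e, IsGenericPoint e (F : Set A.toScheme) :=
      QuasiSober.sober ⟨⟨_, hyF⟩, hirr⟩ F.2
    let η : Y := A.ι e
    have hη : η ⤳ y := (he.specializes hyF).map A.ι.continuous
    obtain ⟨W, hηW, hW⟩ := exists_nhd_closure_component s hs D hη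
    let F' : Closeds A.toScheme := ⟨(F : Set A.toScheme) ∩ (A.ι ⁻¹' W)ᶜ, F.2.inter (W.2.preimage A.ι.continuous).isClosed_compl⟩
    have hlt : F' < F := lt_of_le_not_ge (fun _ h => h.1) fun h => (h he.mem).2 hηW
    obtain ⟨U', hyU', hU'A, hU'⟩ := IH F' hlt
    refine ⟨U', hyU', hU'A, ?_⟩
    have hsplit : Z ∩ f ⁻¹' ((U' : Set Y) ∩ A.ι '' F) =
        (Z ∩ f ⁻¹' ((W : Set Y) ∩ closure {η})) ∩ (f ⁻¹ᵁ U' : X.Opens) ∪ Z ∩ f ⁻¹' ((U' : Set Y) ∩ A.ι '' F') := by
      ext x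
      constructor
      · rintro ⟨hxZ, hxU, ⟨a, ha, hax⟩⟩
        by_cases haW : A.ι a ∈ W
        · refine Or.inl ⟨⟨hxZ, hax ▸ haW, ?_⟩, hxU⟩
          exact hax ▸ (he.specializes ha).map A.ι.continuous |>.mem_closure
        · exact Or.inr ⟨hxZ, hxU, a, ⟨ha, haW⟩, hax⟩
      · rintro (⟨⟨hxZ, hxW, hxη⟩, hxU⟩ | ⟨hxZ, hxU, a, ha, hax⟩)
        · refine ⟨hxZ, hxU, ⟨f x, hU'A hxU⟩, ?_, rfl⟩
          exact (A.ι.isOpenEmbedding.isInducing.specializes_iff.1
            (show A.ι e ⤳ A.ι ⟨f x, hU'A hxU⟩ from specializes_iff_mem_closure.2 hxη)).mem_closed F.2 he.mem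
        · exact ⟨hxZ, hxU, a, ha.1, hax⟩
    rw [hsplit]
    refine (hW.inter ?_).union hU'
    simpa using FibDim.isLocallyConstructible_inter (f ⁻¹ᵁ U').2 isClosed_univ
  · obtain ⟨u, v, hu, hv, ⟨a, haF, hau⟩, ⟨b, hbF, hbv⟩, huv⟩ : ∃ u v : Set A.toScheme, IsOpen u ∧ IsOpen v ∧
        ((F : Set A.toScheme) ∩ u).Nonempty ∧ ((F : Set A.toScheme) ∩ v).Nonempty ∧ ¬((F : Set A.toScheme) ∩ (u ∩ v)).Nonempty := by
      simpa only [IsPreirreducible, not_forall, exists_prop] using hirr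
    let F₁ : Closeds A.toScheme := ⟨(F : Set A.toScheme) ∩ uᶜ, F.2.inter hu.isClosed_compl⟩
    let F₂ : Closeds A.toScheme := ⟨(F : Set A.toScheme) ∩ vᶜ, F.2.inter hv.isClosed_compl⟩
    obtain ⟨U₁, hy₁, hA₁, h₁⟩ := IH F₁ (lt_of_le_not_ge (fun _ h => h.1) fun h => (h haF).2 hau)
    obtain ⟨U₂, hy₂, hA₂, h₂⟩ := IH F₂ (lt_of_le_not_ge (fun _ h => h.1) fun h => (h hbF).2 hbv)
    refine ⟨U₁ ⊓ U₂, ⟨hy₁, hy₂⟩, inf_le_left.trans hA₁, ?_⟩
    have hsplit : Z ∩ f ⁻¹' (((U₁ ⊓ U₂ : Y.Opens) : Set Y) ∩ A.ι '' F) =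
        ((Z ∩ f ⁻¹' ((U₁ : Set Y) ∩ A.ι '' F₁)) ∪ (Z ∩ f ⁻¹' ((U₂ : Set Y) ∩ A.ι '' F₂))) ∩ (f ⁻¹ᵁ (U₁ ⊓ U₂) : X.Opens) := by
      ext x
      constructor
      · rintro ⟨hxZ, hxU, c, hc, hcx⟩
        refine ⟨?_, hxU⟩
        by_cases hcu : c ∈ u
        · exact Or.inr ⟨hxZ, hxU.2, c, ⟨hc, fun hcv => huv ⟨c, hc, hcu, hcv⟩⟩, hcx⟩
        · exact Or.inl ⟨hxZ, hxU.1, c, ⟨hc, hcu⟩, hcx⟩
      · rintro ⟨⟨hxZ, -, c, hc, hcx⟩ | ⟨hxZ, -, c, hc, hcx⟩, hxU⟩ <;> exact ⟨hxZ, hxU, c, hc.1, hcx⟩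
    rw [hsplit]
    refine (h₁.union h₂).inter ?_
    simpa using FibDim.isLocallyConstructible_inter (f ⁻¹ᵁ (U₁ ⊓ U₂)).2 isClosed_univ

theorem sectionComponents_proper_at (s : Y ⟶ X) (hs : s ≫ f = 𝟙 Y)
    (hop : IsOpen ((f.fiberι y).base ⁻¹' connectedComponentIn (f.base ⁻¹' {y}) (s.base y)))
    (hprop : IsProper (Scheme.Opens.ι (⟨(f.fiberι y).base ⁻¹' connectedComponentIn (f.base ⁻¹' {y}) (s.base y), hop⟩ : (f.fiber y).Opens) ≫
      f.fiberToSpecResidueField y)) :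
    ∃ U : Y.Opens, y ∈ U ∧ ∃ hC : IsClosed ((f ⁻¹ᵁ U).ι.base ⁻¹' MoreMor.sectionComponents f s),
      IsProper ((Scheme.IdealSheafData.vanishingIdeal
        (⟨(f ⁻¹ᵁ U).ι.base ⁻¹' MoreMor.sectionComponents f s, hC⟩ : TopologicalSpace.Closeds ↥(f ⁻¹ᵁ U))).subschemeι ≫
        (f ∣_ U)) := by
  have D := compData_sectionComponents f s hs y hop hprop
  obtain ⟨U₀, hy₀, hZ⟩ := exists_nhd_isLocallyConstructible s hs D
  let Z := MoreMor.sectionComponents f s
  let Z₀ := Z ∩ f ⁻¹' U₀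
  obtain ⟨U₁, hy₁, hC, hp⟩ := (D.congr (Z₀ := Z₀) fun x hx =>
    ⟨fun h => h.1, fun h => ⟨h, hx.mem_open U₀.2 hy₀⟩⟩).exists_proper_nhd_of_constructible hZ
  let Sc : Closeds X := ⟨closure Z₀, isClosed_closure⟩
  let j := (Scheme.IdealSheafData.vanishingIdeal Sc).subschemeι
  have hrj : Set.range j = closure Z₀ := H23.RedSub.range_vanishingIdeal Sc
  have : IsReduced (Scheme.IdealSheafData.vanishingIdeal Sc).subscheme := H23.RedSub.isReduced_vanishingIdeal Sc
  have hcl : (f ⁻¹ᵁ U₁).ι.base ⁻¹' closure Z₀ = (f ⁻¹ᵁ U₁).ι.base ⁻¹' Z₀ := by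
    rw [(f ⁻¹ᵁ U₁).ι.isOpenEmbedding.isOpenMap.preimage_closure_eq_closure_preimage
      (f ⁻¹ᵁ U₁).ι.continuous, hC.closure_eq]
  have key : ∀ {U : Y.Opens} (A B : Closeds ↥(f ⁻¹ᵁ U)), A = B →
      IsProper ((Scheme.IdealSheafData.vanishingIdeal A).subschemeι ≫ (f ∣_ U)) →
      IsProper ((Scheme.IdealSheafData.vanishingIdeal B).subschemeι ≫ (f ∣_ U)) := by
    rintro U A _ rfl hA; exact hA
  have hp' := (isProper_vanishingIdeal_iff f U₁ j hrj (isClosed_closure.preimage (f ⁻¹ᵁ U₁).ι.continuous)).1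
    (key _ _ (SetLike.coe_injective hcl.symm) hp)
  let U := U₁ ⊓ U₀
  have hU : IsProper ((j ≫ f) ∣_ U) := (FComplLib.restrict_le_iff (j ≫ f) @IsProper (inf_le_left : U ≤ U₁)).1
    (IsZariskiLocalAtTarget.restrict (P := @IsProper) hp' _)
  have heq : (f ⁻¹ᵁ U).ι.base ⁻¹' closure Z₀ = (f ⁻¹ᵁ U).ι.base ⁻¹' Z := by
    ext v
    refine ⟨fun h => ?_, fun h => subset_closure ⟨h, v.2.2⟩⟩
    exact ((Set.ext_iff.1 hcl ⟨v.1, v.2.1⟩).1 h).1
  have hCU : IsClosed ((f ⁻¹ᵁ U).ι.base ⁻¹' Z) := heq ▸ isClosed_closure.preimage (f ⁻¹ᵁ U).ι.continuous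
  refine ⟨U, ⟨hy₁, hy₀⟩, hCU, key (⟨_, isClosed_closure.preimage (f ⁻¹ᵁ U).ι.continuous⟩) _ (SetLike.coe_injective heq) ?_⟩
  exact (isProper_vanishingIdeal_iff f U j hrj (isClosed_closure.preimage (f ⁻¹ᵁ U).ι.continuous)).2 hU

end Groth.Agent.ProperNhd
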