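import Groth.Agent.ProperNhd.SectionComp
import Groth.Agent.ProperNhd.Approx
import Groth.Agent.ProperNhd.Pack

/-!
# Components along a section are proper near a point where they are proper (EGA IV 15.7.11)
-/

universe u

open CategoryTheory CategoryTheory.Limits AlgebraicGeometry TopologicalSpace IsLocalRing

set_option backward.isDefEq.respectTransparency false
set_option backward.isDefEq.respectTransparency.types false

namespace Groth.Agent.ProperNhd

variable {X Y X' Y' : Scheme.{u}}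

/-- The intersection of `Z` with the fibre at `y` is open and proper over the residue field. -/
def FibreProperAt (f : X ⟶ Y) (y : Y) (Z : Set X) : Prop :=
  ∃ O : (f.fiber y).Opens, (O : Set (f.fiber y)) = (f.fiberι y).base ⁻¹' Z ∧
    IsProper (O.ι ≫ f.fiberToSpecResidueField y)

theorem flat_specMap_field {k K : CommRingCat.{u}} (hk : IsField k) [Nontrivial K] (φ : k ⟶ K) :
    Flat (Spec.map φ) ∧ Surjective (Spec.map φ) ∧ QuasiCompact (Spec.map φ) := by
  let := hk.toField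
  refine ⟨Flat.SpecMap_iff.2 ?_, ⟨fun x => ?_⟩, inferInstance⟩
  · algebraize [φ.hom]
    exact inferInstanceAs (Module.Flat k K)
  · obtain ⟨p⟩ : Nonempty (PrimeSpectrum K) := inferInstance
    exact ⟨p, Subsingleton.elim (α := PrimeSpectrum k) _ _⟩

theorem fibreProperAt_iff {q : X' ⟶ X} {f' : X' ⟶ Y'} {f : X ⟶ Y} {p : Y' ⟶ Y} (sq : IsPullback q f' f p)
    (y' : Y') (Z : Set X) (hop : IsOpen ((f.fiberι (p y')).base ⁻¹' Z)) :
    FibreProperAt f' y' (q ⁻¹' Z) ↔ FibreProperAt f (p y') Z := by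
  let O : (f.fiber (p y')).Opens := ⟨_, hop⟩
  have H := isPullback_fiberToSpecResidueField_of_isPullback sq y'
  obtain ⟨m, Hm, hm⟩ : ∃ m, IsPullback m (f'.fiberToSpecResidueField y') (f.fiberToSpecResidueField (p y'))
      (Spec.map (p.residueFieldMap y')) ∧ m ≫ f.fiberι (p y') = f'.fiberι y' ≫ q :=
    ⟨_, H, pullback.lift_fst _ _ _⟩
  have hO : ((m ⁻¹ᵁ O : (f'.fiber y').Opens) : Set (f'.fiber y')) = (f'.fiberι y').base ⁻¹' (q ⁻¹' Z) := by
    ext v
    show f.fiberι (p y') (m v) ∈ Z ↔ q (f'.fiberι y' v) ∈ Z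
    rw [← Scheme.Hom.comp_apply, hm, Scheme.Hom.comp_apply]
  have key := (isPullback_morphismRestrict m O).paste_vert Hm
  constructor
  · rintro ⟨O', hO', hp⟩
    obtain rfl : O' = m ⁻¹ᵁ O := SetLike.coe_injective (hO'.trans hO.symm)
    refine ⟨O, rfl, ?_⟩
    obtain ⟨h1, h2, h3⟩ := flat_specMap_field (Field.toIsField (Y.residueField (p y'))) (p.residueFieldMap y')
    have := EtFound.fpqc_isProper.{u}
    exact MorphismProperty.of_isPullback_of_descendsAlong (P := @IsProper)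
      (Q := @Surjective ⊓ @Flat ⊓ @QuasiCompact) key.flip ⟨⟨h2, h1⟩, h3⟩ hp
  · rintro ⟨O', hO', hp⟩
    rw [show O' = O from SetLike.coe_injective hO'] at hp
    exact ⟨m ⁻¹ᵁ O, hO, MorphismProperty.of_isPullback (P := @IsProper) key hp⟩

theorem fibreProperAt_component_iff (f : X ⟶ Y) (s : Y ⟶ X) (y : Y) :
    FibreProperAt f y (MoreMor.sectionComponents f s) ↔
      ∃ hop : IsOpen ((f.fiberι y).base ⁻¹' connectedComponentIn (f.base ⁻¹' {y}) (s.base y)),
        IsProper (Scheme.Opens.ι (⟨_, hop⟩ : (f.fiber y).Opens) ≫ f.fiberToSpecResidueField y) := by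
  have he : (f.fiberι y).base ⁻¹' connectedComponentIn (f.base ⁻¹' {y}) (s.base y) =
      (f.fiberι y).base ⁻¹' MoreMor.sectionComponents f s := by
    rw [← sectionComponents_inter_fibre]
    ext v
    exact ⟨fun h => h.1, fun h => ⟨h, (f.range_fiberι y).subset ⟨v, rfl⟩⟩⟩
  constructor
  · rintro ⟨O, hO, hp⟩
    have hop : IsOpen ((f.fiberι y).base ⁻¹' connectedComponentIn (f.base ⁻¹' {y}) (s.base y)) := by
      rw [he, ← hO]; exact O.2
    refine ⟨hop, ?_⟩
    have : (⟨_, hop⟩ : (f.fiber y).Opens) = O := SetLike.coe_injective (he.trans hO.symm)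
    rw [this]; exact hp
  · rintro ⟨hop, hp⟩
    exact ⟨⟨_, hop⟩, he, hp⟩

theorem exists_isProperOn_of_affine [IsAffine Y] (f : X ⟶ Y) [IsSeparated f] [LocallyOfFinitePresentation f]
    [QuasiCompact f] (g : Y ⟶ X) (hg : g ≫ f = 𝟙 Y) (y : Y)
    (h : FibreProperAt f y (MoreMor.sectionComponents f g)) :
    ∃ U : Y.Opens, y ∈ U ∧ IsProperOn f U (MoreMor.sectionComponents f g) := by
  obtain ⟨X₀, Y₀, f₀, g₀, q, p, _, _, _, _, hg₀, sq, hgq⟩ := exists_noetherian_model_section f g hg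
  have hZ : MoreMor.sectionComponents f g = q ⁻¹' MoreMor.sectionComponents f₀ g₀ :=
    Groth.Agent.S1324.result f₀ g₀ hg₀ f q p sq g hg hgq
  have hs : f₀ (g₀ (p y)) = p y := by rw [← Scheme.Hom.comp_apply, hg₀]; rfl
  obtain ⟨⟨O, hO, hOZ⟩, -⟩ := exists_open_closed_component f₀ _ hs (sectionComponents_inter_fibre f₀ g₀ (p y))
  have hop : IsOpen ((f₀.fiberι (p y)).base ⁻¹' MoreMor.sectionComponents f₀ g₀) := by
    convert hO.preimage (f₀.fiberι (p y)).continuous using 1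
    ext v
    have hv : f₀.fiberι (p y) v ∈ f₀ ⁻¹' {p y} := (f₀.range_fiberι _).subset ⟨v, rfl⟩
    exact ⟨fun h => (hOZ.ge ⟨h, hv⟩).1, fun h => (hOZ.le ⟨h, hv⟩).1⟩
  obtain ⟨hop', hp'⟩ := (fibreProperAt_component_iff f₀ g₀ (p y)).1
    ((fibreProperAt_iff sq y _ hop).1 (hZ ▸ h))
  obtain ⟨U₀, hyU₀, hC, hp⟩ := sectionComponents_proper_at g₀ hg₀ hop' hp'
  exact ⟨p ⁻¹ᵁ U₀, hyU₀, hZ ▸ (IsProperOn.of_vanishingIdeal hp).baseChange sq⟩

theorem exists_isProperOn (f : X ⟶ Y) [IsSeparated f] [LocallyOfFinitePresentation f]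
    [QuasiCompact f] (g : Y ⟶ X) (hg : g ≫ f = 𝟙 Y) (y : Y)
    (h : FibreProperAt f y (MoreMor.sectionComponents f g)) :
    ∃ U : Y.Opens, y ∈ U ∧ IsProperOn f U (MoreMor.sectionComponents f g) := by
  obtain ⟨_, ⟨(W : Y.Opens), hW, rfl⟩, hyW, -⟩ :=
    Y.isBasis_affineOpens.exists_subset_of_mem_open (Set.mem_univ y) isOpen_univ
  have : IsAffine W := hW
  have : IsSeparated (f ∣_ W) := IsZariskiLocalAtTarget.restrict (P := @IsSeparated) inferInstance W
  have : QuasiCompact (f ∣_ W) := IsZariskiLocalAtTarget.restrict (P := @QuasiCompact) inferInstance W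
  have : LocallyOfFinitePresentation (f ∣_ W) :=
    IsZariskiLocalAtTarget.restrict (P := @LocallyOfFinitePresentation) inferInstance W
  have sq := (isPullback_morphismRestrict f W).flip
  let g' : W.toScheme ⟶ (f ⁻¹ᵁ W).toScheme := sq.lift (W.ι ≫ g) (𝟙 _) (by rw [Category.assoc, hg, Category.comp_id, Category.id_comp])
  have hg' : g' ≫ (f ∣_ W) = 𝟙 _ := sq.lift_snd _ _ _
  have hZ : MoreMor.sectionComponents (f ∣_ W) g' = (f ⁻¹ᵁ W).ι ⁻¹' MoreMor.sectionComponents f g :=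
    Groth.Agent.S1324.result f g hg (f ∣_ W) (f ⁻¹ᵁ W).ι W.ι sq g' hg' (sq.lift_fst _ _ _)
  obtain ⟨O, hO, hp⟩ := h
  have h' : FibreProperAt (f ∣_ W) ⟨y, hyW⟩ (MoreMor.sectionComponents (f ∣_ W) g') := by
    rw [hZ]
    exact (fibreProperAt_iff sq ⟨y, hyW⟩ _ (hO ▸ O.2)).2 ⟨O, hO, hp⟩
  obtain ⟨U, hU, hP⟩ := exists_isProperOn_of_affine (f ∣_ W) g' hg' ⟨y, hyW⟩ h'
  exact ⟨W.ι ''ᵁ U, ⟨⟨y, hyW⟩, hU, rfl⟩, IsProperOn.of_open (hZ ▸ hP)⟩

end Groth.Agent.ProperNhd
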