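import Groth.Agent.ProperNhd.FlatFibre

/-!
# Properness of universally submersive morphisms with connected fibres (EGA IV 15.7.10)
-/

universe u

open CategoryTheory CategoryTheory.Limits AlgebraicGeometry TopologicalSpace IsLocalRing

set_option backward.isDefEq.respectTransparency false
set_option backward.isDefEq.respectTransparency.types false

namespace Groth.Agent.ProperNhd

theorem isProper_of_quotientMap_complete {A : Type u} [CommRing A] [IsLocalRing A] [IsNoetherianRing A]
    [IsAdicComplete (maximalIdeal A) A] {X : Scheme.{u}} (f : X ⟶ Spec (CommRingCat.of A)) [IsSeparated f]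
    [LocallyOfFiniteType f] [QuasiCompact f] (hq : Topology.IsQuotientMap f)
    (hp : IsProper (f.fiberToSpecResidueField (closedPoint A)))
    (hconn : ∀ q : Spec (CommRingCat.of A), _root_.IsPreconnected (f ⁻¹' {q})) :
    IsProper f := by
  have : IsClosedImmersion ((Spec (CommRingCat.of A)).fromSpecResidueField (closedPoint A)) :=
    IsClosedImmersion.of_isPreimmersion _ (by
      rw [Scheme.range_fromSpecResidueField]; exact IsLocalRing.isClosed_singleton_closedPoint (R := A))
  have : IsClosedImmersion (f.fiberι (closedPoint A)) := MorphismProperty.pullback_fst _ _ inferInstance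
  have hjp : IsProper (f.fiberι (closedPoint A) ≫ f) := by
    have : f.fiberι (closedPoint A) ≫ f = f.fiberToSpecResidueField (closedPoint A) ≫
        (Spec (CommRingCat.of A)).fromSpecResidueField (closedPoint A) := pullback.condition
    rw [this]
    infer_instance
  obtain ⟨V, hVc, hV, hVW⟩ := exists_clopen_proper f _ subset_rfl
    ((IsLocalRing.isClosed_singleton_closedPoint (R := A)).preimage f.continuous) ⟨Set.univ, isOpen_univ, Set.univ_inter _⟩
    (f.fiberι (closedPoint A)) (f.range_fiberι _) hjp
  have hVtop : V = ⊤ := by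
    rw [eq_top_iff]
    intro c _
    by_contra hc
    have hsat : f ⁻¹' (f '' (V : Set X)) = V := Set.Subset.antisymm (fun a ha => by
      obtain ⟨b, hb, hba⟩ := ha
      by_contra hn
      obtain ⟨e, -, he⟩ := hconn (f a) (V : Set X) (V : Set X)ᶜ V.2 hVc.isOpen_compl
        (fun x _ => Classical.em _) ⟨b, hba, hb⟩ ⟨a, rfl, hn⟩
      exact he.2 he.1) (Set.subset_preimage_image _ _)
    have hop : IsOpen (f '' (V : Set X)) := hq.isOpen_preimage.1 (by rw [hsat]; exact V.2)
    obtain ⟨x₀, hx₀⟩ := hq.surjective (closedPoint A)
    have : f c ∈ f '' (V : Set X) := (IsLocalRing.specializes_closedPoint (f c)).mem_open hop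
      ⟨x₀, (hVW.ge hx₀).1, hx₀⟩
    exact hc (hsat.le this)
  subst hVtop
  have := hV
  have : IsIso (⊤ : X.Opens).ι := by rw [← Scheme.topIso_hom]; infer_instance
  have : f = inv (⊤ : X.Opens).ι ≫ (⊤ : X.Opens).ι ≫ f := (IsIso.inv_hom_id_assoc _ _).symm
  rw [this]
  infer_instance

theorem exists_isProper_nhd_of_submersive {X Y : Scheme.{u}} [IsLocallyNoetherian Y] (f : X ⟶ Y) [IsSeparated f]
    [LocallyOfFiniteType f] [QuasiCompact f]
    (hsub : MorphismProperty.universally (topologically fun g => Topology.IsQuotientMap g) f)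
    (hconn : ∀ y : Y, GeometricallyConnected (f.fiberToSpecResidueField y))
    (y : Y) (hy : IsProper (f.fiberToSpecResidueField y)) :
    ∃ U : Y.Opens, y ∈ U ∧ IsProper (f ∣_ U) := by
  have : IsProper (pullback.snd f (fromCpl y)) :=
    isProper_of_quotientMap_complete (pullback.snd f (fromCpl y))
      (hsub _ _ _ (IsPullback.of_hasPullback f (fromCpl y)).flip)
      (isProper_pullback_fibre f (fromCpl y) _ (fromCpl_closedPoint y)) fun q => by
      have := hconn (fromCpl y q)
      exact (isConnected_pullback_fibre f (fromCpl y) q rfl).isPreconnected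
  exact exists_isProper_nhd_of_completion y f

end Groth.Agent.ProperNhd
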